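import Groth.Agent.DTenLib.Dual

/-!
# The evaluation maps of Hom complexes are isomorphisms for bounded complexes of finite projectives
-/

universe u
open CategoryTheory CategoryTheory.Limits MonoidalCategory TensorProduct
open CochainComplex CochainComplex.HomComplex

namespace Groth.Agent.DTenLib

open Groth.Agent.DRing

variable {A : Type u} [CommRing A]

lemma isIso_of_bijective {K L : DRing.Cx A} (f : K ⟶ L)
    (h : ∀ n, Function.Bijective (f.f n).hom) : IsIso f := by
  have : ∀ n, IsIso (f.f n) := fun n => (ConcreteCategory.isIso_iff_bijective _).2 (h n)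
  exact HomologicalComplex.Hom.isIso_of_components f

/-- Transport of a pure tensor along equal second degrees. -/
lemma tm_cv_congr {K P L : DRing.Cx A} {k r p q q' n : ℤ} (hk : k + q = n) (hk' : k + q' = n)
    (x : K.X k) (c : (DRing.homCx P L).X r) (h : p + r = q) (h' : p + r = q') (w : P.X p) :
    tm K L hk x ((cv c p q h).hom w) = tm K L hk' x ((cv c p q' h').hom w) := by
  obtain rfl : q = q' := by omega
  rfl

/-- Value at an element, as a linear map. -/
noncomputable def cvAt {P L : DRing.Cx A} {n p q : ℤ} (h : p + n = q) (x : P.X p) :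
    (DRing.homCx P L).X n →ₗ[A] L.X q where
  toFun Φ := (cv Φ p q h).hom x
  map_add' Φ Φ' := by rw [cv_add]; rfl
  map_smul' a Φ := by rw [cv_smul]; rfl

section Ten

variable (P N Y : DRing.Cx A)

/-- `P ⊗ Hom•(N, Y) ⟶ Hom•(N, P ⊗ Y)`. -/
noncomputable def etaTen : P ⊗ DRing.homCx N Y ⟶ DRing.homCx N (P ⊗ Y) :=
  curry ((α_ P (DRing.homCx N Y) N).hom ≫ P ◁ ev N Y)

variable {P N Y}

lemma etaTen_tm {p k n : ℤ} (h : p + k = n) (x : P.X p) (c : (DRing.homCx N Y).X k) (r s : ℤ)
    (hrs : r + n = s) (w : N.X r) :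
    (cv (((etaTen P N Y).f n).hom (tm P _ h x c)) r s hrs).hom w =
      tm P Y (show p + (k + r) = s by omega) x ((cv c r (k + r) (by omega)).hom w) := by
  change (((α_ P (DRing.homCx N Y) N).hom ≫ P ◁ ev N Y).f s).hom
    (tm _ N (show n + r = s by omega) (tm P _ h x c) w) = _
  rw [HomologicalComplex.comp_f, ModuleCat.hom_comp, LinearMap.comp_apply,
    assoc_tm h (show n + r = s by omega) (rfl : k + r = k + r), whiskerLeft_tm, ev_tm]

/-- The tensor by a fixed element, as a linear map. -/
noncomputable def tmL (K L : DRing.Cx A) {p q n : ℤ} (h : p + q = n) (x : K.X p) :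
    L.X q →ₗ[A] (K ⊗ L).X n where
  toFun y := tm K L h x y
  map_add' y y' := tm_add_right h x y y'
  map_smul' a y := tm_smul_right h a x y

/-- The tensor with a fixed right element, as a linear map. -/
noncomputable def tmR (K L : DRing.Cx A) {p q n : ℤ} (h : p + q = n) (y : L.X q) :
    K.X p →ₗ[A] (K ⊗ L).X n where
  toFun x := tm K L h x y
  map_add' x x' := tm_add_left h x x' y
  map_smul' a x := tm_smul_left h a x y

/-- The tensor, as a bilinear map. -/
noncomputable def tmBil (K L : DRing.Cx A) {p q n : ℤ} (h : p + q = n) :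
    K.X p →ₗ[A] L.X q →ₗ[A] (K ⊗ L).X n where
  toFun x := tmL K L h x
  map_add' x x' := LinearMap.ext fun y => tm_add_left h x x' y
  map_smul' a x := LinearMap.ext fun y => tm_smul_left h a x y

lemma bijective_etaTen_left (D : DualData P) (n : ℤ) :
    Function.Bijective ((etaTen P N Y).f n).hom := by
  classical
  -- the cochain of contractions
  let ψ : ∀ p, Fin (D.size p) → ((DRing.homCx N (P ⊗ Y)).X n →ₗ[A] (DRing.homCx N Y).X (n - p)) :=
    fun p i =>
    { toFun := fun Φ => show Cochain N Y (n - p) from Cochain.mk fun r s hrs =>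
        cv Φ r (r + n) rfl ≫ contr Y (D.φ p i) (r + n) s (by omega)
      map_add' := fun Φ Φ' => cv_ext fun r s hrs => by
        change cv (Φ + Φ') r (r + n) rfl ≫ _ = _
        rw [cv_add, Preadditive.add_comp]; rfl
      map_smul' := fun a Φ => cv_ext fun r s hrs => by
        change cv (a • Φ) r (r + n) rfl ≫ _ = _
        rw [cv_smul, Linear.smul_comp]; rfl }
  let inv : (DRing.homCx N (P ⊗ Y)).X n →ₗ[A] (P ⊗ DRing.homCx N Y).X n :=
    ∑ p ∈ D.supp, ∑ i, (tmL P (DRing.homCx N Y) (show p + (n - p) = n by omega) (D.e p i)).comp (ψ p i)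
  have h1 : ∀ Φ, ((etaTen P N Y).f n).hom (inv Φ) = Φ := fun Φ => by
    refine cv_ext fun r s hrs => ModuleCat.hom_ext (LinearMap.ext fun w => ?_)
    subst hrs
    simp only [inv, LinearMap.coe_sum, Finset.sum_apply, LinearMap.comp_apply, map_sum, cv_sum]
    conv_rhs => rw [← sum_tm_contr D ((cv Φ r (r + n) rfl).hom w)]
    refine Finset.sum_congr rfl fun p _ => Finset.sum_congr rfl fun i _ => ?_
    refine (etaTen_tm _ (D.e p i) (ψ p i Φ) r (r + n) rfl w).trans ?_
    exact tm_cv_congr _ _ (D.e p i) (ψ p i Φ) _ (show r + (n - p) = r + n - p by omega) w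
  have h2 : (etaTen P N Y).f n ≫ ModuleCat.ofHom inv = 𝟙 _ := by
    refine hom_ext_tm fun p₀ k h x c => ?_
    change inv (((etaTen P N Y).f n).hom (tm P _ h x c)) = tm P _ h x c
    simp only [inv, LinearMap.coe_sum, Finset.sum_apply, LinearMap.comp_apply]
    by_cases hp : p₀ ∈ D.supp
    · rw [Finset.sum_eq_single p₀]
      · obtain rfl : k = n - p₀ := by omega
        have : ∀ i, ψ p₀ i (((etaTen P N Y).f n).hom (tm P _ h x c)) = D.φ p₀ i x • c := fun i => by
          refine cv_ext fun r s hrs => ModuleCat.hom_ext (LinearMap.ext fun w => ?_)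
          change (contr Y (D.φ p₀ i) (r + n) s (by omega)).hom
            ((cv (((etaTen P N Y).f n).hom (tm P _ h x c)) r (r + n) rfl).hom w) = _
          rw [etaTen_tm]
          obtain rfl : s = n - p₀ + r := by omega
          rw [contr_tm, cv_smul]
          rfl
        simp only [this]
        conv_rhs => rw [← D.sum_eq p₀ x]
        refine Eq.trans ?_ (map_sum (tmR P (DRing.homCx N Y) h c) _ _).symm
        refine Finset.sum_congr rfl fun i _ => ?_
        exact (tm_smul_right _ _ _ _).trans (tm_smul_left _ _ _ _).symm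
      · intro p _ hne
        refine Finset.sum_eq_zero fun i _ => ?_
        rw [show ψ p i (((etaTen P N Y).f n).hom (tm P _ h x c)) = 0 from ?_, map_zero]
        refine cv_ext fun r s hrs => ModuleCat.hom_ext (LinearMap.ext fun w => ?_)
        change (contr Y (D.φ p i) (r + n) s (by omega)).hom
            ((cv (((etaTen P N Y).f n).hom (tm P _ h x c)) r (r + n) rfl).hom w) = _
        rw [etaTen_tm, contr_tm_ne _ _ _ _ _ (Ne.symm hne)]
        rfl
      · exact fun h => absurd hp h
    · rw [D.eq_zero p₀ hp x]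
      simp [tm_zero_left]
  exact ⟨Function.HasLeftInverse.injective ⟨inv, fun z => congrArg (fun f => f.hom z) h2⟩,
    fun Φ => ⟨inv Φ, h1 Φ⟩⟩

lemma bijective_etaTen_right (D : DualData N) (n : ℤ) :
    Function.Bijective ((etaTen P N Y).f n).hom := by
  classical
  -- `x ⊗ y ↦ x ⊗ (w ↦ φ w • y)`
  let L : ∀ r, Fin (D.size r) → ((P ⊗ Y).X (r + n) ⟶ (P ⊗ DRing.homCx N Y).X n) := fun r j =>
    HomologicalComplex.mapBifunctorDesc fun p q (hpq : p + q = r + n) => ModuleCat.ofHom (TensorProduct.lift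
      (((tmBil P (DRing.homCx N Y) (show p + (q - r) = n by omega))).compl₂
        (elemC (D.φ r j) (q - r) q (by omega))))
  have L_tm : ∀ r j p q (hpq : p + q = r + n) (x : P.X p) (y : Y.X q),
      (L r j).hom (tm P Y hpq x y) =
        tm P _ (show p + (q - r) = n by omega) x (elemC (D.φ r j) (q - r) q (by omega) y) := by
    intro r j p q hpq x y
    change (Tensor.ιT P Y p q (r + n) hpq ≫ L r j).hom (x ⊗ₜ[A] y) = _
    erw [HomologicalComplex.ι_mapBifunctorDesc]
    rfl
  let inv : (DRing.homCx N (P ⊗ Y)).X n →ₗ[A] (P ⊗ DRing.homCx N Y).X n :=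
    ∑ r ∈ D.supp, ∑ j, (L r j).hom.comp (cvAt (rfl : r + n = r + n) (D.e r j))
  have hL : ∀ r j (r' : ℤ) (w : N.X r'), (L r j ≫ (etaTen P N Y).f n) ≫ ModuleCat.ofHom
      (cvAt (rfl : r' + n = r' + n) w) =
      if hr : r' = r then D.φ r j ((N.XIsoOfEq hr).hom.hom w) • ((P ⊗ Y).XIsoOfEq (by rw [hr])).hom
      else 0 := by
    intro r j r' w
    refine hom_ext_tm fun p q hpq x y => ?_
    change (cv (((etaTen P N Y).f n).hom ((L r j).hom (tm P Y hpq x y))) r' (r' + n) rfl).hom w = _
    rw [L_tm, etaTen_tm]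
    by_cases hr : r' = r
    · subst hr
      rw [dif_pos rfl]
      refine (tm_cv_congr _ hpq x _ _ (show r' + (q - r') = q by omega) w).trans ?_
      rw [cv_elemC, tm_smul_right]
      rfl
    · rw [dif_neg hr, cv_elemC_ne _ _ _ _ _ _ _ _ hr, ModuleCat.hom_zero, LinearMap.zero_apply,
        tm_zero_right]
      rfl
  have h1 : ∀ Φ, ((etaTen P N Y).f n).hom (inv Φ) = Φ := fun Φ => by
    refine cv_ext fun r s hrs => ModuleCat.hom_ext (LinearMap.ext fun w => ?_)
    subst hrs
    simp only [inv, LinearMap.coe_sum, Finset.sum_apply, LinearMap.comp_apply, map_sum, cv_sum]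
    have e : ∀ r' j, (cv (((etaTen P N Y).f n).hom ((L r' j).hom ((cv Φ r' (r' + n) rfl).hom (D.e r' j))))
        r (r + n) rfl).hom w = _ := fun r' j =>
      congrArg (fun f => f.hom ((cv Φ r' (r' + n) rfl).hom (D.e r' j))) (hL r' j r w)
    refine (Finset.sum_congr rfl fun r' _ => Finset.sum_congr rfl fun j _ => e r' j).trans ?_
    by_cases hr : r ∈ D.supp
    · rw [Finset.sum_eq_single r]
      · simp only [dif_pos]
        conv_rhs => rw [← D.sum_eq r w, map_sum]
        simp only [map_smul]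
        rfl
      · intro r' _ hne
        exact Finset.sum_eq_zero fun j _ => by rw [dif_neg (Ne.symm hne)]; rfl
      · exact fun h => absurd hr h
    · rw [D.eq_zero r hr w]
      refine Eq.trans (Finset.sum_eq_zero fun r' hr' => Finset.sum_eq_zero fun j _ => ?_) (map_zero _).symm
      rw [dif_neg (fun h : r = r' => hr (by rw [h]; exact hr'))]
      rfl
  have h2 : (etaTen P N Y).f n ≫ ModuleCat.ofHom inv = 𝟙 _ := by
    refine hom_ext_tm fun p₀ k h x c => ?_
    change inv (((etaTen P N Y).f n).hom (tm P _ h x c)) = tm P _ h x c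
    simp only [inv, LinearMap.coe_sum, Finset.sum_apply, LinearMap.comp_apply, cvAt, LinearMap.coe_mk,
      AddHom.coe_mk]
    conv_rhs => rw [← sum_elemC D c]
    refine Eq.trans ?_ (map_sum (tmL P (DRing.homCx N Y) h x) _ _).symm
    refine Finset.sum_congr rfl fun r _ => ?_
    refine Eq.trans ?_ (map_sum (tmL P (DRing.homCx N Y) h x) _ _).symm
    refine Finset.sum_congr rfl fun j _ => ?_
    rw [etaTen_tm, L_tm]
    have hgen : ∀ (k' q q' : ℤ) (_ : k' = k) (h₁ : r + k' = q) (h₂ : r + k = q') (hk' : p₀ + k' = n)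
        (hq : r + k = q),
        tm P (DRing.homCx N Y) hk' x (elemC (D.φ r j) k' q h₁ ((cv c r q hq).hom (D.e r j))) =
          tm P (DRing.homCx N Y) h x (elemC (D.φ r j) k q' h₂ ((cv c r q' h₂).hom (D.e r j))) := by
      intro k' q q' e h₁ h₂ hk' hq
      subst e
      obtain rfl : q = q' := by omega
      rfl
    exact hgen _ _ _ (by omega) _ _ _ _
  exact ⟨Function.HasLeftInverse.injective ⟨inv, fun z => congrArg (fun f => f.hom z) h2⟩,
    fun Φ => ⟨inv Φ, h1 Φ⟩⟩

lemma isIso_etaTen_left (D : DualData P) : IsIso (etaTen P N Y) :=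
  isIso_of_bijective _ (bijective_etaTen_left D)

lemma isIso_etaTen_right (D : DualData N) : IsIso (etaTen P N Y) :=
  isIso_of_bijective _ (bijective_etaTen_right D)

end Ten

section Hom

variable (P L Y : DRing.Cx A)

/-- `Hom•(L, Y) ⊗ P ⟶ Hom•(Hom•(P, L), Y)`. -/
noncomputable def etaHom : DRing.homCx L Y ⊗ P ⟶ DRing.homCx (DRing.homCx P L) Y :=
  curry ((α_ (DRing.homCx L Y) P (DRing.homCx P L)).hom ≫
    DRing.homCx L Y ◁ ((DTen.braidCx P (DRing.homCx P L)).hom ≫ ev P L) ≫ ev L Y)

variable {P L Y}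

lemma etaHom_tm {k p n : ℤ} (h : k + p = n) (g : (DRing.homCx L Y).X k) (x : P.X p) (r s : ℤ)
    (hrs : r + n = s) (c : (DRing.homCx P L).X r) :
    (cv (((etaHom P L Y).f n).hom (tm _ P h g x)) r s hrs).hom c =
      (p * r).negOnePow • (cv g (p + r) s (by omega)).hom ((cv c p (p + r) rfl).hom x) := by
  change ((((α_ (DRing.homCx L Y) P (DRing.homCx P L)).hom ≫
    DRing.homCx L Y ◁ ((DTen.braidCx P (DRing.homCx P L)).hom ≫ ev P L) ≫ ev L Y)).f s).hom
    (tm _ _ (show n + r = s by omega) (tm _ P h g x) c) = _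
  simp only [HomologicalComplex.comp_f, ModuleCat.hom_comp, LinearMap.comp_apply]
  rw [assoc_tm h (show n + r = s by omega) (rfl : p + r = p + r), whiskerLeft_tm, ev_tm]
  simp only [HomologicalComplex.comp_f, ModuleCat.hom_comp, LinearMap.comp_apply]
  rw [braidCx_tm, Units.smul_def, map_zsmul, ev_tm, map_zsmul]
  rfl

lemma bijective_etaHom (D : DualData P) (n : ℤ) : Function.Bijective ((etaHom P L Y).f n).hom := by
  classical
  let g : ∀ p, Fin (D.size p) →
      ((DRing.homCx (DRing.homCx P L) Y).X n →ₗ[A] (DRing.homCx L Y).X (n - p)) := fun p i =>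
    { toFun := fun Φ => show Cochain L Y (n - p) from Cochain.mk fun q s hqs =>
        (p * (q - p)).negOnePow • (ModuleCat.ofHom (elemC (D.φ p i) (q - p) q (by omega)) ≫
          cv Φ (q - p) s (by omega))
      map_add' := fun Φ Φ' => cv_ext fun q s hqs => by
        change (p * (q - p)).negOnePow • (_ ≫ cv (Φ + Φ') (q - p) s _) = _
        rw [cv_add, Preadditive.comp_add, smul_add]; rfl
      map_smul' := fun a Φ => cv_ext fun q s hqs => by
        change (p * (q - p)).negOnePow • (_ ≫ cv (a • Φ) (q - p) s _) = _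
        rw [cv_smul, Linear.comp_smul, smul_comm]; rfl }
  let inv : (DRing.homCx (DRing.homCx P L) Y).X n →ₗ[A] (DRing.homCx L Y ⊗ P).X n :=
    ∑ p ∈ D.supp, ∑ i, (tmR (DRing.homCx L Y) P (show n - p + p = n by omega) (D.e p i)).comp (g p i)
  have hsign : ∀ (p : ℤ) (r : ℤ) (M : ModuleCat.{u} A) (m : M),
      (p * r).negOnePow • (p * r).negOnePow • m = m := fun p r M m => by
    rw [smul_smul, Int.units_mul_self, one_smul]
  have g_cv : ∀ p i Φ (q s : ℤ) (hqs : q + (n - p) = s) (r : ℤ) (hr : p + r = q) (l : L.X q),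
      (cv (g p i Φ) q s hqs).hom l =
        (p * r).negOnePow • (cv Φ r s (by omega)).hom (elemC (D.φ p i) r q hr l) := by
    intro p i Φ q s hqs r hr l
    obtain rfl : r = q - p := by omega
    rfl
  have h1 : ∀ Φ, ((etaHom P L Y).f n).hom (inv Φ) = Φ := fun Φ => by
    refine cv_ext fun r s hrs => ModuleCat.hom_ext (LinearMap.ext fun c => ?_)
    simp only [inv, LinearMap.coe_sum, Finset.sum_apply, LinearMap.comp_apply, map_sum, cv_sum]
    conv_rhs => rw [← sum_elemC D c, map_sum]
    refine Finset.sum_congr rfl fun p _ => ?_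
    rw [map_sum]
    refine Finset.sum_congr rfl fun i _ => ?_
    refine (etaHom_tm _ (g p i Φ) (D.e p i) r s hrs c).trans ?_
    rw [g_cv p i Φ (p + r) s _ r rfl]
    exact hsign p r _ _
  have h2 : (etaHom P L Y).f n ≫ ModuleCat.ofHom inv = 𝟙 _ := by
    refine hom_ext_tm fun k p₀ h g₀ x => ?_
    change inv (((etaHom P L Y).f n).hom (tm _ P h g₀ x)) = tm _ P h g₀ x
    simp only [inv, LinearMap.coe_sum, Finset.sum_apply, LinearMap.comp_apply]
    have key : ∀ p i (q s : ℤ) (hqs : q + (n - p) = s) (l : L.X q),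
        (cv (g p i (((etaHom P L Y).f n).hom (tm _ P h g₀ x))) q s hqs).hom l =
          (p * (q - p)).negOnePow • (p₀ * (q - p)).negOnePow • (cv g₀ (p₀ + (q - p)) s (by omega)).hom
            ((cv (elemC (D.φ p i) (q - p) q (by omega) l) p₀ (p₀ + (q - p)) rfl).hom x) := fun p i q s hqs l => by
      rw [g_cv p i _ q s hqs (q - p) (by omega), etaHom_tm]
    by_cases hp : p₀ ∈ D.supp
    · rw [Finset.sum_eq_single p₀]
      · obtain rfl : k = n - p₀ := by omega
        have : ∀ i, g p₀ i (((etaHom P L Y).f n).hom (tm _ P h g₀ x)) = D.φ p₀ i x • g₀ := fun i => by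
          refine cv_ext fun q s hqs => ModuleCat.hom_ext (LinearMap.ext fun l => ?_)
          rw [key, cv_smul, hsign]
          have e : ∀ (q' : ℤ) (h₁ : p₀ + (q - p₀) = q') (h₂ : q' + (n - p₀) = s),
              (cv g₀ q' s h₂).hom ((cv (elemC (D.φ p₀ i) (q - p₀) q (by omega) l) p₀ q' h₁).hom x) =
                D.φ p₀ i x • (cv g₀ q s hqs).hom l := by
            intro q' h₁ h₂
            obtain rfl : q' = q := by omega
            rw [cv_elemC, map_smul]
          exact e _ _ _
        simp only [this]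
        conv_rhs => rw [← D.sum_eq p₀ x]
        refine Eq.trans ?_ (map_sum (tmL (DRing.homCx L Y) P h g₀) _ _).symm
        refine Finset.sum_congr rfl fun i _ => ?_
        exact (tm_smul_left _ _ _ _).trans (tm_smul_right _ _ _ _).symm
      · intro p _ hne
        refine Finset.sum_eq_zero fun i _ => ?_
        rw [show g p i (((etaHom P L Y).f n).hom (tm _ P h g₀ x)) = 0 from ?_, map_zero]
        refine cv_ext fun q s hqs => ModuleCat.hom_ext (LinearMap.ext fun l => ?_)
        rw [key, cv_elemC_ne _ _ _ _ _ _ _ _ (Ne.symm hne), ModuleCat.hom_zero, LinearMap.zero_apply,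
          map_zero, smul_zero, smul_zero]
        rfl
      · exact fun h => absurd hp h
    · rw [D.eq_zero p₀ hp x]
      simp [tm_zero_right]
  exact ⟨Function.HasLeftInverse.injective ⟨inv, fun z => congrArg (fun f => f.hom z) h2⟩,
    fun Φ => ⟨inv Φ, h1 Φ⟩⟩

lemma isIso_etaHom (D : DualData P) : IsIso (etaHom P L Y) :=
  isIso_of_bijective _ (bijective_etaHom D)

end Hom

end Groth.Agent.DTenLib
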