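import Groth.Agent.DTenLib.RHom

/-!
# Naturality of the associator and of the evaluation maps of the closed structure
-/

universe u
open CategoryTheory CategoryTheory.Limits MonoidalCategory
attribute [local instance] HasDerivedCategory.standard

namespace Groth.Agent.DTenLib

variable {A : Type u} [CommRing A] [DTen.HasLTen A]

/-- The action of `⊗^L` on a pair of maps. -/
noncomputable abbrev LT {K K' L L' : Dual.D A} (a : K ⟶ K') (b : L ⟶ L') :
    (DTen.LTen₂ A).obj (K, L) ⟶ (DTen.LTen₂ A).obj (K', L') :=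
  (DTen.LTen₂ A).map (Prod.mkHom a b)

@[reassoc]
lemma LT_comp {K K' K'' L L' L'' : Dual.D A} (a : K ⟶ K') (a' : K' ⟶ K'') (b : L ⟶ L')
    (b' : L' ⟶ L'') : LT a b ≫ LT a' b' = LT (a ≫ a') (b ≫ b') :=
  ((DTen.LTen₂ A).map_comp (Prod.mkHom a b) (Prod.mkHom a' b')).symm

lemma LT_id (K L : Dual.D A) : LT (𝟙 K) (𝟙 L) = 𝟙 _ := (DTen.LTen₂ A).map_id (K, L)

lemma isIso_LT {K K' L L' : Dual.D A} (a : K ⟶ K') (b : L ⟶ L') (ha : IsIso a) (hb : IsIso b) :
    IsIso (LT a b) := by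
  have : IsIso (Prod.mkHom a b) := by rw [isIso_prod_iff]; exact ⟨ha, hb⟩
  exact Functor.map_isIso _ _

@[reassoc]
lemma symm_natural {K K' L L' : Dual.D A} (a : K ⟶ K') (b : L ⟶ L') :
    LT b a ≫ (DTen.symm A).app (K', L') = (DTen.symm A).app (K, L) ≫ LT a b :=
  (DTen.symm A).naturality (Prod.mkHom a b : (K, L) ⟶ (K', L'))

section Closed

variable [DTen.HasRHom A]

@[reassoc]
lemma ev_natural {L L' M : Dual.D A} (b : L ⟶ L') :
    LT ((DTen.RHomR A M).map b) (𝟙 M) ≫ DTen.ev M L' = DTen.ev M L ≫ b :=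
  (DTen.rhomAdj A M).counit.naturality b

@[reassoc]
lemma ev_dinatural {M M' L : Dual.D A} (c : M' ⟶ M) :
    LT (DTen.RHomMap c L) (𝟙 M') ≫ DTen.ev M' L = LT (𝟙 _) c ≫ DTen.ev M L :=
  DTen.RHom_map_ev c L

lemma symm_homEquiv_comp {K K' L M : Dual.D A} (g : K' ⟶ K) (f : K ⟶ (DTen.RHomR A L).obj M) :
    (DTen.rhomHomEquiv K' L M).symm (g ≫ f) = LT g (𝟙 L) ≫ (DTen.rhomHomEquiv K L M).symm f :=
  Adjunction.homEquiv_naturality_left_symm _ _ _

lemma symm_homEquiv_map {K L M M' : Dual.D A} (f : K ⟶ (DTen.RHomR A L).obj M) (g : M ⟶ M') :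
    (DTen.rhomHomEquiv K L M').symm (f ≫ (DTen.RHomR A L).map g) =
      (DTen.rhomHomEquiv K L M).symm f ≫ g :=
  Adjunction.homEquiv_naturality_right_symm _ _ _

lemma symm_homEquiv_RHomMap {K L L' M : Dual.D A} (f : K ⟶ (DTen.RHomR A L).obj M) (c : L' ⟶ L) :
    (DTen.rhomHomEquiv K L' M).symm (f ≫ DTen.RHomMap c M) =
      LT (𝟙 K) c ≫ (DTen.rhomHomEquiv K L M).symm f := by
  have e : ∀ (L₀ : Dual.D A) (h : K ⟶ (DTen.RHomR A L₀).obj M),
      (DTen.rhomHomEquiv K L₀ M).symm h = LT h (𝟙 L₀) ≫ DTen.ev L₀ M := fun L₀ h =>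
    (DTen.rhomAdj A L₀).homEquiv_counit _ _ _
  rw [e, e]
  have h1 : LT (f ≫ DTen.RHomMap c M) (𝟙 L') = LT f (𝟙 L') ≫ LT (DTen.RHomMap c M) (𝟙 L') := by
    rw [LT_comp, Category.comp_id]
  rw [h1, Category.assoc, ev_dinatural, LT_comp_assoc, LT_comp_assoc, Category.comp_id,
    Category.id_comp, Category.id_comp, Category.comp_id]

lemma isIso_RHomMap {L L' : Dual.D A} (g : L' ⟶ L) (hg : IsIso g) (M : Dual.D A) :
    IsIso (DTen.RHomMap g M) := by
  have := hg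
  have : IsIso ((DTen.RHom A).map g.op) := Functor.map_isIso _ _
  exact inferInstanceAs (IsIso (((DTen.RHom A).map g.op).app M))

variable [DTen.HasLTen₃ A] [DTen.IsSymMonoidal A]

omit [DTen.HasRHom A] in
@[reassoc]
lemma assoc_natural' {K K' L L' M M' : Dual.D A} (a : K ⟶ K') (b : L ⟶ L') (c : M ⟶ M') :
    LT (LT a b) c ≫ (DTen.associator K' L' M').hom = (DTen.associator K L M).hom ≫ LT a (LT b c) :=
  (asIso (DTen.assocL A) ≪≫ (asIso (DTen.assocR A)).symm).hom.naturality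
    (Prod.mkHom a (Prod.mkHom b c) : (K, (L, M)) ⟶ (K', (L', M')))

lemma evalTen_natural {K K' L L' M M' : Dual.D A} (a : K ⟶ K') (b : L ⟶ L') (c : M' ⟶ M) :
    LT a (DTen.RHomMap c L ≫ (DTen.RHomR A M').map b) ≫ DTen.evalTen K' L' M' =
      DTen.evalTen K L M ≫ DTen.RHomMap c ((DTen.LTen₂ A).obj (K, L)) ≫
        (DTen.RHomR A M').map (LT a b) := by
  apply (DTen.rhomHomEquiv _ _ _).symm.injective
  rw [symm_homEquiv_comp, ← Category.assoc (DTen.evalTen K L M), symm_homEquiv_map,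
    symm_homEquiv_RHomMap, DTen.evalTen, DTen.evalTen, Equiv.symm_apply_apply, Equiv.symm_apply_apply,
    DTen.evalTenAux, DTen.evalTenAux]
  change LT (LT a (DTen.RHomMap c L ≫ (DTen.RHomR A M').map b)) (𝟙 M') ≫
      (DTen.associator _ _ _).hom ≫ LT (𝟙 K') (DTen.ev M' L') =
    (LT (𝟙 _) c ≫ (DTen.associator _ _ _).hom ≫ LT (𝟙 K) (DTen.ev M L)) ≫ LT a b
  rw [assoc_natural'_assoc, ← LT_id K ((DTen.RHomR A M).obj L)]
  simp only [Category.assoc]
  rw [assoc_natural'_assoc]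
  simp only [LT_comp, Category.id_comp, Category.comp_id]
  have h1 : LT (DTen.RHomMap c L ≫ (DTen.RHomR A M').map b) (𝟙 M') ≫ DTen.ev M' L' =
      LT (𝟙 _) c ≫ DTen.ev M L ≫ b := by
    rw [← ev_dinatural_assoc, ← ev_natural, LT_comp_assoc, Category.comp_id]
  rw [h1]

lemma evalHom_natural {K K' L L' M M' : Dual.D A} (a : K ⟶ K') (b : L' ⟶ L) (c : M ⟶ M') :
    LT (DTen.RHomMap b M ≫ (DTen.RHomR A L').map c) a ≫ DTen.evalHom K' L' M' =
      DTen.evalHom K L M ≫ DTen.RHomMap (DTen.RHomMap a L' ≫ (DTen.RHomR A K).map b) M ≫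
        (DTen.RHomR A ((DTen.RHomR A K').obj L')).map c := by
  apply (DTen.rhomHomEquiv _ _ _).symm.injective
  rw [symm_homEquiv_comp, ← Category.assoc (DTen.evalHom K L M), symm_homEquiv_map,
    symm_homEquiv_RHomMap, DTen.evalHom, DTen.evalHom, Equiv.symm_apply_apply, Equiv.symm_apply_apply,
    DTen.evalHomAux, DTen.evalHomAux]
  set d := DTen.RHomMap a L' ≫ (DTen.RHomR A K).map b with hd
  set f := DTen.RHomMap b M ≫ (DTen.RHomR A L').map c with hf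
  change LT (LT f a) (𝟙 _) ≫ (DTen.associator _ _ _).hom ≫
      LT (𝟙 _) ((DTen.symm A).app (_, K') ≫ DTen.ev K' L') ≫ DTen.ev L' M' =
    (LT (𝟙 _) d ≫ (DTen.associator _ _ _).hom ≫ LT (𝟙 _) ((DTen.symm A).app (_, K) ≫ DTen.ev K L) ≫
      DTen.ev L M) ≫ c
  rw [assoc_natural'_assoc, ← LT_id ((DTen.RHomR A L).obj M) K]
  simp only [Category.assoc]
  rw [assoc_natural'_assoc]
  congr 1
  have h1 : LT f (𝟙 L') ≫ DTen.ev L' M' = LT (𝟙 _) b ≫ DTen.ev L M ≫ c := by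
    rw [hf, ← ev_dinatural_assoc, ← ev_natural, LT_comp_assoc, Category.comp_id]
  have h2 : LT (𝟙 K) d ≫ (DTen.symm A).app (_, K) ≫ DTen.ev K L =
      (LT a (𝟙 _) ≫ (DTen.symm A).app (_, K') ≫ DTen.ev K' L') ≫ b := by
    rw [symm_natural_assoc d (𝟙 K), symm_natural_assoc (𝟙 _) a, hd]
    simp only [Category.assoc]
    congr 1
    rw [← ev_dinatural_assoc, ← ev_natural, LT_comp_assoc, Category.comp_id]
  rw [LT_comp_assoc, LT_comp_assoc, Category.comp_id, Category.id_comp, h2]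
  have h3 : ∀ {W : Dual.D A} (u : W ⟶ L'), LT f u ≫ DTen.ev L' M' = LT (𝟙 _) (u ≫ b) ≫ DTen.ev L M ≫ c := by
    intro W u
    have : LT f u = LT (𝟙 _) u ≫ LT f (𝟙 L') := by rw [LT_comp, Category.id_comp, Category.comp_id]
    rw [this, Category.assoc, h1, LT_comp_assoc, Category.id_comp]
  exact h3 _

end Closed

end Groth.Agent.DTenLib
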