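import Groth.Agent.DTenLib.Base
import Groth.Agent.DTenLib.Nat
import Groth.Agent.DTenLib.EvalCx
import Groth.Prelude.Def_DTen5

/-!
# Base change for derived hom
-/

universe u
open CategoryTheory CategoryTheory.Limits MonoidalCategory
open CochainComplex CochainComplex.HomComplex
attribute [local instance] HasDerivedCategory.standard

namespace Groth.Agent.DTenLib

open Groth.Agent.DRing

variable {R R' : Type u} [CommRing R] [CommRing R'] (φ : R →+* R')

/-- `res Hom•(ext P, Y) ⟶ Hom•(P, res Y)`. -/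
noncomputable def omega (P : DRing.Cx R) (Y : DRing.Cx R') :
    (DTen.resCx φ).obj (DRing.homCx ((DTen.extCx φ).obj P) Y) ⟶ DRing.homCx P ((DTen.resCx φ).obj Y) :=
  curry ((DTen.resCx φ).obj (DRing.homCx ((DTen.extCx φ).obj P) Y) ◁ (DTen.unitCx φ).app P ≫
    DTen.resTenCx φ (DRing.homCx ((DTen.extCx φ).obj P) Y) ((DTen.extCx φ).obj P) ≫
    (DTen.resCx φ).map (ev ((DTen.extCx φ).obj P) Y))

lemma cv_omega {P : DRing.Cx R} {Y : DRing.Cx R'} {n : ℤ}
    (z : (DRing.homCx ((DTen.extCx φ).obj P) Y).X n) (p q : ℤ) (h : p + n = q) :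
    cv (((omega φ P Y).f n).hom z) p q h =
      ((ModuleCat.extendRestrictScalarsAdj.{u, u, u} φ).homEquiv (P.X p) (Y.X q)) (cv z p q h) := by
  rw [Adjunction.homEquiv_unit]
  refine ModuleCat.hom_ext (LinearMap.ext fun x => ?_)
  change ((((DTen.resCx φ).obj (DRing.homCx ((DTen.extCx φ).obj P) Y) ◁ (DTen.unitCx φ).app P ≫
    DTen.resTenCx φ (DRing.homCx ((DTen.extCx φ).obj P) Y) ((DTen.extCx φ).obj P) ≫
    (DTen.resCx φ).map (ev ((DTen.extCx φ).obj P) Y))).f q).hom (tm _ P (show n + p = q by omega) z x) =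
    (cv z p q h).hom (((DTen.unitCx φ).app P).f p |>.hom x)
  simp only [HomologicalComplex.comp_f, ModuleCat.hom_comp, LinearMap.comp_apply]
  erw [whiskerLeft_tm]
  erw [congrArg (fun f => f.hom (z ⊗ₜ[R] (((DTen.unitCx φ).app P).f p).hom x))
    (DTen.ι_resTenCx φ (DRing.homCx ((DTen.extCx φ).obj P) Y) ((DTen.extCx φ).obj P) n p q (by omega))]
  exact ev_tm (P := (DTen.extCx φ).obj P) (Y := Y) (show n + p = q by omega) z _

lemma isIso_omega (P : DRing.Cx R) (Y : DRing.Cx R') : IsIso (omega φ P Y) := by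
  refine isIso_of_bijective _ fun n => ⟨fun z z' h => cv_ext fun p q hpq => ?_, fun Φ => ?_⟩
  · apply ((ModuleCat.extendRestrictScalarsAdj.{u, u, u} φ).homEquiv (P.X p) (Y.X q)).injective
    rw [← cv_omega, ← cv_omega, h]
  · let z : Cochain ((DTen.extCx φ).obj P) Y n := Cochain.mk fun p q hpq =>
      ((ModuleCat.extendRestrictScalarsAdj.{u, u, u} φ).homEquiv (P.X p) (Y.X q)).symm (cv Φ p q hpq)
    refine ⟨z, cv_ext fun p q hpq => ?_⟩
    refine (cv_omega φ z p q hpq).trans ?_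
    exact ((ModuleCat.extendRestrictScalarsAdj.{u, u, u} φ).homEquiv (P.X p) (Y.X q)).apply_symm_apply _

lemma isKProjective_homCx {P L : DRing.Cx R} (D : DualData P) [P.IsKProjective] [L.IsKProjective] :
    CochainComplex.IsKProjective (DRing.homCx P L) := by
  refine ⟨fun {Z} f hZ => ?_⟩
  have := isIso_etaHom (L := L) (Y := Z) D
  have hz : IsZero ((DRing.homCx (DRing.homCx P L) Z).homology 0) :=
    (((isKFlat_kproj P : DRing.IsKFlat R P) (DRing.homCx L Z) (fun i =>
      (HomologicalComplex.exactAt_iff_isZero_homology _ _).1 (acyclic_homCx (P := L) hZ i))) 0).of_iso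
      ((HomologicalComplex.homologyFunctor _ _ 0).mapIso (asIso (etaHom P L Z))).symm
  have hx := (HomologicalComplex.exactAt_iff_isZero_homology _ _).2 hz
  rw [HomologicalComplex.exactAt_iff' _ (-1) 0 1 (by simp) (by simp),
    ShortComplex.moduleCat_exact_iff] at hx
  obtain ⟨w, hw⟩ := hx (show Cochain (DRing.homCx P L) Z 0 from Cochain.ofHom f) (δ_ofHom f)
  refine ⟨(Cochain.equivHomotopy f 0).symm ⟨show Cochain (DRing.homCx P L) Z (-1) from w, ?_⟩⟩
  rw [Cochain.ofHom_zero, add_zero]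
  exact hw.symm

/-- `ext Hom•(P, Y) ⟶ Hom•(ext P, ext Y)`. -/
noncomputable def kappa (P Y : DRing.Cx R) :
    (DTen.extCx φ).obj (DRing.homCx P Y) ⟶ DRing.homCx ((DTen.extCx φ).obj P) ((DTen.extCx φ).obj Y) :=
  have := isIso_omega φ P ((DTen.extCx φ).obj Y)
  coadjunct φ (DRing.homCxMap P ((DTen.unitCx φ).app Y) ≫ inv (omega φ P ((DTen.extCx φ).obj Y)))

lemma adjunct_kappa_omega (P Y : DRing.Cx R) :
    adjunct φ (kappa φ P Y) ≫ omega φ P ((DTen.extCx φ).obj Y) =
      DRing.homCxMap P ((DTen.unitCx φ).app Y) := by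
  have := isIso_omega φ P ((DTen.extCx φ).obj Y)
  rw [kappa, adjunct_coadjunct, Category.assoc, IsIso.inv_hom_id, Category.comp_id]

lemma cv_kappa {P Y : DRing.Cx R} {n : ℤ} (z : (DRing.homCx P Y).X n) (p q : ℤ) (h : p + n = q)
    (x : P.X p) :
    (cv (((kappa φ P Y).f n).hom ((((DTen.unitCx φ).app (DRing.homCx P Y)).f n).hom z)) p q h).hom
        ((((DTen.unitCx φ).app P).f p).hom x) =
      (((DTen.unitCx φ).app Y).f q).hom ((cv z p q h).hom x) := by
  have h1 := congrArg (fun f => (cv ((f.f n).hom z) p q h).hom x) (adjunct_kappa_omega φ P Y)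
  rw [adjunct] at h1
  simp only [HomologicalComplex.comp_f, ModuleCat.hom_comp, LinearMap.comp_apply] at h1
  rw [cv_omega, cv_post, Adjunction.homEquiv_unit] at h1
  exact h1

lemma ext_hom_eq {K : ModuleCat.{u} R} {N : ModuleCat.{u} R'}
    {f g : (ModuleCat.extendScalars.{u, u, u} φ).obj K ⟶ N}
    (h : ∀ x, f.hom (((ModuleCat.extendRestrictScalarsAdj.{u, u, u} φ).unit.app K).hom x) =
      g.hom (((ModuleCat.extendRestrictScalarsAdj.{u, u, u} φ).unit.app K).hom x)) : f = g := by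
  apply ((ModuleCat.extendRestrictScalarsAdj.{u, u, u} φ).homEquiv K N).injective
  rw [Adjunction.homEquiv_unit, Adjunction.homEquiv_unit]
  exact ModuleCat.hom_ext (LinearMap.ext h)

lemma isIso_kappa {P : DRing.Cx R} (D : DualData P) (Y : DRing.Cx R) : IsIso (kappa φ P Y) := by
  refine isIso_of_bijective _ fun n => ?_
  let u (K : DRing.Cx R) (p : ℤ) := (((DTen.unitCx φ).app K).f p).hom
  let E (r : ℤ) (j : Fin (D.size r)) :
      ((DTen.extCx φ).obj Y).X (r + n) ⟶ ((DTen.extCx φ).obj (DRing.homCx P Y)).X n :=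
    (ModuleCat.extendScalars.{u, u, u} φ).map (ModuleCat.ofHom (elemC (D.φ r j) n (r + n) rfl))
  let inv' : (DRing.homCx ((DTen.extCx φ).obj P) ((DTen.extCx φ).obj Y)).X n →ₗ[R']
      ((DTen.extCx φ).obj (DRing.homCx P Y)).X n :=
    ∑ r ∈ D.supp, ∑ j, (E r j).hom.comp (cvAt (rfl : r + n = r + n) (u P r (D.e r j)))
  have hE : ∀ r j (y : Y.X (r + n)),
      (E r j).hom (u Y (r + n) y) = u (DRing.homCx P Y) n (elemC (D.φ r j) n (r + n) rfl y) := fun r j y =>
    (congrArg (fun f => f.hom y) ((ModuleCat.extendRestrictScalarsAdj.{u, u, u} φ).unit.naturality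
      (ModuleCat.ofHom (elemC (D.φ r j) n (r + n) rfl)))).symm
  have h1 : ∀ Φ, ((kappa φ P Y).f n).hom (inv' Φ) = Φ := fun Φ => by
    refine cv_ext fun p q hpq => ext_hom_eq φ fun x => ?_
    subst hpq
    change (cv (((kappa φ P Y).f n).hom (inv' Φ)) p (p + n) rfl).hom (u P p x) =
      (cv Φ p (p + n) rfl).hom (u P p x)
    have hterm : ∀ r j (y' : ((DTen.extCx φ).obj Y).X (r + n)),
        (cv (((kappa φ P Y).f n).hom ((E r j).hom y')) p (p + n) rfl).hom (u P p x) =
          (((ModuleCat.extendScalars.{u, u, u} φ).map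
            (ModuleCat.ofHom (elemC (D.φ r j) n (r + n) rfl) ≫
              ModuleCat.ofHom (cvAt (rfl : p + n = p + n) x)))).hom y' := by
      intro r j y'
      have : E r j ≫ (kappa φ P Y).f n ≫ ModuleCat.ofHom (cvAt (rfl : p + n = p + n) (u P p x)) =
          (ModuleCat.extendScalars.{u, u, u} φ).map
            (ModuleCat.ofHom (elemC (D.φ r j) n (r + n) rfl) ≫
              ModuleCat.ofHom (cvAt (rfl : p + n = p + n) x)) := by
        refine ext_hom_eq φ fun y => ?_
        change (cv (((kappa φ P Y).f n).hom ((E r j).hom (u Y (r + n) y))) p (p + n) rfl).hom (u P p x) = _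
        rw [hE]
        refine (cv_kappa φ (elemC (D.φ r j) n (r + n) rfl y) p (p + n) rfl x).trans ?_
        exact congrArg (fun f => f.hom y) ((ModuleCat.extendRestrictScalarsAdj.{u, u, u} φ).unit.naturality
          (ModuleCat.ofHom (elemC (D.φ r j) n (r + n) rfl) ≫ ModuleCat.ofHom (cvAt (rfl : p + n = p + n) x)))
      exact congrArg (fun f => f.hom y') this
    simp only [inv', LinearMap.coe_sum, Finset.sum_apply, LinearMap.comp_apply, map_sum, cv_sum, hterm]
    -- `Φ ∘ unit` is `R`-linear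
    let Φu : P.X p ⟶ (ModuleCat.restrictScalars.{u} φ).obj (((DTen.extCx φ).obj Y).X (p + n)) :=
      ((ModuleCat.extendRestrictScalarsAdj.{u, u, u} φ).homEquiv _ _) (cv Φ p (p + n) rfl)
    have hΦu : ∀ x, (cv Φ p (p + n) rfl).hom (u P p x) = Φu.hom x := fun x => by
      simp only [Φu, Adjunction.homEquiv_unit]; rfl
    by_cases hp : p ∈ D.supp
    · rw [Finset.sum_eq_single p]
      · rw [hΦu]
        conv_rhs => rw [← D.sum_eq p x, map_sum]
        refine Finset.sum_congr rfl fun j _ => ?_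
        rw [map_smul, ← hΦu]
        have : ModuleCat.ofHom (elemC (L := Y) (D.φ p j) n (p + n) rfl) ≫
            ModuleCat.ofHom (cvAt (rfl : p + n = p + n) x) = D.φ p j x • 𝟙 (Y.X (p + n)) :=
          ModuleCat.hom_ext (LinearMap.ext fun y => by
            change (cv (elemC (D.φ p j) n (p + n) rfl y) p (p + n) rfl).hom x = _
            rw [cv_elemC]; rfl)
        rw [this]
        have hsm : (ModuleCat.extendScalars.{u, u, u} φ).map (D.φ p j x • 𝟙 (Y.X (p + n))) =
            φ (D.φ p j x) • 𝟙 _ := by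
          refine ext_hom_eq φ fun y => ?_
          exact (congrArg (fun f => f.hom y) ((ModuleCat.extendRestrictScalarsAdj.{u, u, u} φ).unit.naturality
            (D.φ p j x • 𝟙 (Y.X (p + n))))).symm.trans
              (map_smul ((ModuleCat.extendRestrictScalarsAdj.{u, u, u} φ).unit.app (Y.X (p + n))).hom _ _)
        rw [hsm]
        rfl
      · intro r _ hne
        refine Finset.sum_eq_zero fun j _ => ?_
        have : ModuleCat.ofHom (elemC (L := Y) (D.φ r j) n (r + n) rfl) ≫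
            ModuleCat.ofHom (cvAt (rfl : p + n = p + n) x) = 0 :=
          ModuleCat.hom_ext (LinearMap.ext fun y => by
            change (cv (elemC (D.φ r j) n (r + n) rfl y) p (p + n) rfl).hom x = _
            rw [cv_elemC_ne _ _ _ _ _ _ _ _ (Ne.symm hne)]; rfl)
        rw [this, Functor.map_zero]
        rfl
      · exact fun h => absurd hp h
    · obtain rfl := D.eq_zero p hp x
      have : ModuleCat.ofHom (cvAt (P := P) (L := Y) (rfl : p + n = p + n) (0 : P.X p)) = 0 :=
        ModuleCat.hom_ext (LinearMap.ext fun y => map_zero (cv y p (p + n) rfl).hom)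
      simp only [this, comp_zero, Functor.map_zero, ModuleCat.hom_zero, LinearMap.zero_apply, map_zero]
      exact (Finset.sum_eq_zero fun _ _ => Finset.sum_eq_zero fun _ _ => rfl).trans (map_zero _).symm
  have h2 : (kappa φ P Y).f n ≫ ModuleCat.ofHom inv' = 𝟙 _ := by
    refine ext_hom_eq φ fun z => ?_
    change inv' (((kappa φ P Y).f n).hom (u (DRing.homCx P Y) n z)) = u (DRing.homCx P Y) n z
    simp only [inv', LinearMap.coe_sum, Finset.sum_apply, LinearMap.comp_apply]
    conv_rhs => rw [← sum_elemC D z, map_sum]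
    refine Finset.sum_congr rfl fun r _ => ?_
    rw [map_sum]
    refine Finset.sum_congr rfl fun j _ => ?_
    refine Eq.trans (congrArg (E r j).hom ?_) (hE r j _)
    exact cv_kappa φ z r (r + n) rfl (D.e r j)
  exact ⟨Function.HasLeftInverse.injective ⟨inv', fun z => congrArg (fun f => f.hom z) h2⟩,
    fun Φ => ⟨inv' Φ, h1 Φ⟩⟩

variable [DTen.HasLTen R] [DTen.HasLTen R'] [DTen.HasRHom R] [DTen.HasRHom R'] [DTen.HasLBase φ]
  [DTen.HasResTen φ] [DTen.ResLegIso φ]

omit [DTen.HasRHom R] [DTen.HasRHom R'] [DTen.HasLBase φ] in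
@[reassoc]
lemma resPF_natural {X X' Y Y' : Dual.D R'} (u : X ⟶ X') (v : Y ⟶ Y') :
    LT ((DRing.restrictD φ).map u) ((DRing.restrictD φ).map v) ≫ (DTen.resPF φ).app (X', Y') =
      (DTen.resPF φ).app (X, Y) ≫ (DRing.restrictD φ).map (LT u v) :=
  (DTen.resPF φ).naturality (Prod.mkHom u v : (X, Y) ⟶ (X', Y'))

lemma rhomBC_natural (K : Dual.D R) {M M' : Dual.D R'} (c : M ⟶ M') :
    (DRing.restrictD φ).map ((DTen.RHomR R' ((DTen.LBase φ).obj K)).map c) ≫ DTen.rhomBC φ K M' =
      DTen.rhomBC φ K M ≫ (DTen.RHomR R K).map ((DRing.restrictD φ).map c) := by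
  apply (DTen.rhomHomEquiv _ _ _).symm.injective
  rw [symm_homEquiv_comp, symm_homEquiv_map, DTen.rhomBC, DTen.rhomBC, Equiv.symm_apply_apply,
    Equiv.symm_apply_apply, DTen.rhomBCCore, DTen.rhomBCCore]
  change LT _ (𝟙 K) ≫ LT (𝟙 _) ((DTen.baseAdj φ).unit.app K) ≫ _ = _
  rw [LT_comp_assoc, Category.comp_id, Category.id_comp]
  have h1 : LT ((DRing.restrictD φ).map ((DTen.RHomR R' ((DTen.LBase φ).obj K)).map c))
      ((DTen.baseAdj φ).unit.app K) =
      LT (𝟙 _) ((DTen.baseAdj φ).unit.app K) ≫ LT ((DRing.restrictD φ).map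
        ((DTen.RHomR R' ((DTen.LBase φ).obj K)).map c)) ((DRing.restrictD φ).map (𝟙 _)) := by
    rw [LT_comp, CategoryTheory.Functor.map_id, Category.id_comp]
    erw [Category.comp_id]
  rw [h1, Category.assoc, resPF_natural_assoc, ← Functor.map_comp, ev_natural]
  simp only [Functor.map_comp, Category.assoc]

lemma rhomBC_comp (P : DRing.Cx R) (Y : DRing.Cx R') :
    (DTen.resFactors φ).inv.app (DRing.homCx ((DTen.extCx φ).obj P) Y) ≫
        (DRing.restrictD φ).map (theta ((DTen.extCx φ).obj P) Y ≫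
          DTen.RHomMap ((DTen.baseCmp φ).app P) (DerivedCategory.Q.obj Y)) ≫
        DTen.rhomBC φ (DerivedCategory.Q.obj P) (DerivedCategory.Q.obj Y) ≫
          (DTen.RHomR R (DerivedCategory.Q.obj P)).map ((DTen.resFactors φ).hom.app Y) =
      DerivedCategory.Q.map (omega φ P Y) ≫ theta P ((DTen.resCx φ).obj Y) := by
  apply (DTen.rhomHomEquiv _ _ _).symm.injective
  erw [symm_homEquiv_comp, symm_homEquiv_comp, symm_homEquiv_map]
  rw [DTen.rhomBC]
  erw [Equiv.symm_apply_apply]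
  rw [DTen.rhomBCCore]
  erw [symm_Q_map_theta]
  rw [omega, uncurry_curry]
  set Cc := DRing.homCx ((DTen.extCx φ).obj P) Y
  set b := (DTen.baseCmp φ).app P
  change LT ((DTen.resFactors φ).inv.app Cc) (𝟙 (DerivedCategory.Q.obj P)) ≫ LT _ (𝟙 (DerivedCategory.Q.obj P)) ≫
    (LT (𝟙 _) ((DTen.baseAdj φ).unit.app (DerivedCategory.Q.obj P)) ≫ _ ≫ _) ≫ _ = _
  simp only [Category.assoc]
  rw [LT_comp_assoc, LT_comp_assoc, Category.comp_id, Category.id_comp]
  have h1 : LT ((DTen.resFactors φ).inv.app Cc ≫ (DRing.restrictD φ).map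
      (theta ((DTen.extCx φ).obj P) Y ≫ DTen.RHomMap b (DerivedCategory.Q.obj Y)))
      ((DTen.baseAdj φ).unit.app (DerivedCategory.Q.obj P)) =
      LT ((DTen.resFactors φ).inv.app Cc) ((DTen.baseAdj φ).unit.app (DerivedCategory.Q.obj P)) ≫
        LT ((DRing.restrictD φ).map (theta ((DTen.extCx φ).obj P) Y ≫
          DTen.RHomMap b (DerivedCategory.Q.obj Y))) ((DRing.restrictD φ).map (𝟙 _)) := by
    rw [LT_comp, CategoryTheory.Functor.map_id]
    erw [Category.comp_id]
  erw [Category.id_comp ((DTen.baseAdj φ).unit.app (DerivedCategory.Q.obj P))]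
  erw [h1]
  simp only [Category.assoc]
  erw [resPF_natural_assoc]
  have h2 : LT (theta ((DTen.extCx φ).obj P) Y ≫ DTen.RHomMap b (DerivedCategory.Q.obj Y)) (𝟙 _) ≫
      DTen.ev _ (DerivedCategory.Q.obj Y) =
      LT (𝟙 _) b ≫ (DTen.ε R').app (Cc, (DTen.extCx φ).obj P) ≫
        DerivedCategory.Q.map (ev ((DTen.extCx φ).obj P) Y) := by
    have : LT (theta ((DTen.extCx φ).obj P) Y ≫ DTen.RHomMap b (DerivedCategory.Q.obj Y)) (𝟙 ((DerivedCategory.Q ⋙ DTen.LBase φ).obj P)) =
        LT (theta ((DTen.extCx φ).obj P) Y) (𝟙 ((DerivedCategory.Q ⋙ DTen.LBase φ).obj P)) ≫ LT (DTen.RHomMap b (DerivedCategory.Q.obj Y)) (𝟙 ((DerivedCategory.Q ⋙ DTen.LBase φ).obj P)) := by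
      rw [LT_comp, Category.comp_id]
    rw [this, Category.assoc, ev_dinatural, LT_comp_assoc]
    erw [Category.comp_id, Category.id_comp]
    erw [← theta_fac ((DTen.extCx φ).obj P) Y]
    rw [← Category.assoc]
    erw [LT_comp]
    rw [Category.id_comp]; erw [Category.comp_id]
    rfl
  rw [← Functor.map_comp_assoc]
  erw [h2]
  rw [Functor.map_comp_assoc]
  erw [← resPF_natural_assoc (φ := φ) (𝟙 (DerivedCategory.Q.obj Cc)) b]
  rw [CategoryTheory.Functor.map_id, LT_comp_assoc]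
  erw [Category.comp_id]
  erw [DTen.baseCmp_fac φ P]
  rw [Functor.map_comp_assoc]
  have hf := DTen.resPF_fac φ (Cc, (DTen.extCx φ).obj P)
  have hn := (DTen.resFactors φ).hom.naturality (ev ((DTen.extCx φ).obj P) Y)
  erw [hn]
  rw [← Category.assoc ((DRing.restrictD φ).map ((DTen.ε R').app _))]
  change LT _ _ ≫ _ ≫ (DTen.resβB φ).app (Cc, (DTen.extCx φ).obj P) ≫ _ = _
  erw [reassoc_of% hf]
  dsimp only [DTen.resβA]
  simp only [Category.assoc]
  change LT _ _ ≫ LT _ _ ≫ _ = _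
  rw [LT_comp_assoc, Iso.inv_hom_id_app]
  have hγ : (DTen.baseγ φ).app P ≫ (DTen.resFactors φ).hom.app ((DTen.extCx φ).obj P) =
      DerivedCategory.Q.map ((DTen.unitCx φ).app P) := by
    dsimp [DTen.baseγ]
    rw [Category.assoc, Iso.inv_hom_id_app]
    exact Category.comp_id _
  erw [hγ]
  rw [Functor.map_comp, Functor.map_comp, ← Category.assoc, ← Category.assoc]
  erw [ε_natural_right ((DTen.resCx φ).obj Cc) ((DTen.unitCx φ).app P)]
  simp only [Category.assoc]
  rfl

theorem isIso_rhomBC (K : Dual.D R) (M : Dual.D R') : IsIso (DTen.rhomBC φ K M) := by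
  obtain ⟨P, hP, -, ⟨a⟩⟩ := DBasic.exists_kproj_iso K
  let Y := DerivedCategory.Q.objPreimage M
  let c : DRing.toD Y ≅ M := DerivedCategory.Q.objObjPreimageIso M
  have hext := isKProjective_extCx φ P
  have hθ := isIso_theta ((DTen.extCx φ).obj P) Y
  have hθ' := isIso_theta P ((DTen.resCx φ).obj Y)
  have hb := isIso_baseCmp_kproj φ P
  have hω := isIso_omega φ P Y
  have hc := rhomBC_comp φ P Y
  have h0 : IsIso (DTen.rhomBC φ (DerivedCategory.Q.obj P) (DerivedCategory.Q.obj Y)) := by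
    have i1 : IsIso ((DRing.restrictD φ).map (theta ((DTen.extCx φ).obj P) Y ≫
          DTen.RHomMap ((DTen.baseCmp φ).app P) (DerivedCategory.Q.obj Y))) :=
      @Functor.map_isIso _ _ _ _ _ _ _ _ (IsIso.comp_isIso' hθ (isIso_RHomMap _ hb _))
    have i2 : IsIso (DerivedCategory.Q.map (omega φ P Y) ≫ theta P ((DTen.resCx φ).obj Y)) := inferInstance
    rw [← hc] at i2
    have i3 : IsIso ((DTen.RHomR R (DerivedCategory.Q.obj P)).map ((DTen.resFactors φ).hom.app Y)) :=
      Functor.map_isIso _ _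
    have i4 : IsIso ((DRing.restrictD φ).map (theta ((DTen.extCx φ).obj P) Y ≫
          DTen.RHomMap ((DTen.baseCmp φ).app P) (DerivedCategory.Q.obj Y)) ≫
        DTen.rhomBC φ (DerivedCategory.Q.obj P) (DerivedCategory.Q.obj Y) ≫
          (DTen.RHomR R (DerivedCategory.Q.obj P)).map ((DTen.resFactors φ).hom.app Y)) :=
      @IsIso.of_isIso_comp_left _ _ _ _ _ ((DTen.resFactors φ).inv.app
        (DRing.homCx ((DTen.extCx φ).obj P) Y)) _ inferInstance i2
    have i5 := @IsIso.of_isIso_comp_left _ _ _ _ _ _ _ i1 i4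
    exact @IsIso.of_isIso_comp_right _ _ _ _ _ _ _ i3 i5
  -- transport in `M`, then in `K`
  have h1 : IsIso (DTen.rhomBC φ (DerivedCategory.Q.obj P) M) := by
    have hn := rhomBC_natural φ (DerivedCategory.Q.obj P) c.hom
    have : IsIso (DTen.rhomBC φ (DerivedCategory.Q.obj P) (DerivedCategory.Q.obj Y) ≫
        (DTen.RHomR R (DerivedCategory.Q.obj P)).map ((DRing.restrictD φ).map c.hom)) :=
      IsIso.comp_isIso' h0 (Functor.map_isIso _ _)
    rw [← hn] at this
    exact IsIso.of_isIso_comp_left ((DRing.restrictD φ).map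
      ((DTen.RHomR R' ((DTen.LBase φ).obj (DerivedCategory.Q.obj P))).map c.hom)) _
  have hk : ∀ {K K' : Dual.D R} (k : K' ⟶ K),
      (DRing.restrictD φ).map (DTen.RHomMap ((DTen.LBase φ).map k) M) ≫ DTen.rhomBC φ K' M =
        DTen.rhomBC φ K M ≫ DTen.RHomMap k ((DRing.restrictD φ).obj M) := by
    intro K K' k
    apply (DTen.rhomHomEquiv _ _ _).symm.injective
    rw [symm_homEquiv_comp, symm_homEquiv_RHomMap, DTen.rhomBC, DTen.rhomBC, Equiv.symm_apply_apply,
      Equiv.symm_apply_apply, DTen.rhomBCCore, DTen.rhomBCCore]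
    change LT _ (𝟙 K') ≫ LT (𝟙 _) ((DTen.baseAdj φ).unit.app K') ≫ _ =
      LT (𝟙 _) k ≫ LT (𝟙 _) ((DTen.baseAdj φ).unit.app K) ≫ _
    rw [LT_comp_assoc, LT_comp_assoc, Category.comp_id, Category.id_comp, Category.comp_id]
    have e1 : LT ((DRing.restrictD φ).map (DTen.RHomMap ((DTen.LBase φ).map k) M))
        ((DTen.baseAdj φ).unit.app K') =
        LT (𝟙 _) ((DTen.baseAdj φ).unit.app K') ≫ LT ((DRing.restrictD φ).map
          (DTen.RHomMap ((DTen.LBase φ).map k) M)) ((DRing.restrictD φ).map (𝟙 _)) := by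
      rw [LT_comp, CategoryTheory.Functor.map_id, Category.id_comp]
      erw [Category.comp_id]
    rw [e1, Category.assoc, resPF_natural_assoc, ← Functor.map_comp, ev_dinatural, Functor.map_comp]
    erw [← resPF_natural_assoc (φ := φ) (𝟙 _) ((DTen.LBase φ).map k)]
    rw [CategoryTheory.Functor.map_id, LT_comp_assoc, Category.id_comp]
    congr 2
    exact ((DTen.baseAdj φ).unit.naturality k).symm
  have := hk a.inv
  have hR : IsIso (DTen.RHomMap a.inv ((DRing.restrictD φ).obj M)) := isIso_RHomMap _ inferInstance _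
  have hL : IsIso ((DRing.restrictD φ).map (DTen.RHomMap ((DTen.LBase φ).map a.inv) M)) :=
    @Functor.map_isIso _ _ _ _ _ _ _ _ (isIso_RHomMap _ inferInstance _)
  have h2 : IsIso (DTen.rhomBC φ (DRing.toD P) M ≫ DTen.RHomMap a.inv ((DRing.restrictD φ).obj M)) :=
    IsIso.comp_isIso' h1 hR
  rw [← this] at h2
  exact IsIso.of_isIso_comp_left ((DRing.restrictD φ).map (DTen.RHomMap ((DTen.LBase φ).map a.inv) M)) _

end Groth.Agent.DTenLib
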