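import Groth.Agent.DRing.LTensor
import Groth.Prelude.Def_DTen2

/-!
# Values of the derived tensor product of two and three complexes on K-flat arguments
-/

universe u
open CategoryTheory CategoryTheory.Limits MonoidalCategory
attribute [local instance] HasDerivedCategory.standard

namespace Groth.Agent.DTenLib

open Groth.Agent.DRing

variable {A : Type u} [CommRing A]

/-- A K-projective resolution. -/
lemma exists_kproj_res (K : DRing.Cx A) :
    ∃ (P : DRing.Cx A) (π : P ⟶ K), P.IsKProjective ∧ QuasiIso π := by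
  obtain ⟨P, π, hP, -, hq, -⟩ := KProjRes.exists_resolution K
  exact ⟨P, π, hP, hq⟩

lemma isKFlat_kproj (P : DRing.Cx A) [P.IsKProjective] : DRing.IsKFlat A P :=
  KFlat.isKFlat_of_isKProjective P

lemma isKFlat_tensor {K L : DRing.Cx A} (hK : DRing.IsKFlat A K) (hL : DRing.IsKFlat A L) :
    DRing.IsKFlat A (K ⊗ L) := fun M hM i =>
  (hL (M ⊗ K) (hK M hM) i).of_iso
    ((HomologicalComplex.homologyFunctor _ _ i).mapIso (α_ M K L).symm)

lemma Q_map_whiskerLeft_eq (E : DRing.Cx A) {P Y : DRing.Cx A} {g g' : P ⟶ Y} (h : Homotopy g g') :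
    DerivedCategory.Q.map (E ◁ g) = DerivedCategory.Q.map (E ◁ g') :=
  DerivedCategory.Q_map_eq_of_homotopy (ModuleCat.{u} A) (Tensor.whiskerLeftHomotopy E h)

lemma isGood₂ (P L : DRing.Cx A) [P.IsKProjective] [L.IsKProjective] :
    LeftDerived.IsGood (DTen.QQ A) (DTen.tensor₂ A) (P, L) where
  fac Y φ := by
    obtain ⟨f, hf⟩ := DBasic.exists_Q_map_eq φ.1
    obtain ⟨g, hg⟩ := DBasic.exists_Q_map_eq φ.2
    exact ⟨Prod.mkHom f g, Prod.ext hf hg⟩
  eq Y g g' h := by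
    obtain ⟨e₁⟩ := (DBasic.Q_map_eq_iff g.1 g'.1).1 (congrArg (·.1) h)
    obtain ⟨e₂⟩ := (DBasic.Q_map_eq_iff g.2 g'.2).1 (congrArg (·.2) h)
    change DerivedCategory.Q.map (g.1 ▷ L ≫ Y.1 ◁ g.2) = DerivedCategory.Q.map (g'.1 ▷ L ≫ Y.1 ◁ g'.2)
    rw [Functor.map_comp, Functor.map_comp, LTensor.Q_map_whiskerRight_eq L e₁,
      Q_map_whiskerLeft_eq Y.1 e₂]

lemma hasEnough₂ : LeftDerived.HasEnough (DTen.QQ A) (DTen.tensor₂ A) := by
  rintro ⟨K, L⟩
  obtain ⟨P, π, hP, hπ⟩ := exists_kproj_res K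
  obtain ⟨P', π', hP', hπ'⟩ := exists_kproj_res L
  refine ⟨(P, P'), Prod.mkHom π π', isGood₂ P P', ?_⟩
  rw [isIso_prod_iff]
  exact ⟨inferInstanceAs (IsIso (DerivedCategory.Q.map π)),
    inferInstanceAs (IsIso (DerivedCategory.Q.map π'))⟩

/-- The counit is an isomorphism when either complex is K-flat. -/
theorem isIso_ε [DTen.HasLTen A] (K L : DRing.Cx A)
    (h : DRing.IsKFlat A K ∨ DRing.IsKFlat A L) : IsIso ((DTen.ε A).app (K, L)) := by
  obtain ⟨P, π, hP, hπ⟩ := exists_kproj_res K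
  obtain ⟨P', π', hP', hπ'⟩ := exists_kproj_res L
  have hs : IsIso ((DTen.QQ A).map (Prod.mkHom π π')) := by
    rw [isIso_prod_iff]
    exact ⟨inferInstanceAs (IsIso (DerivedCategory.Q.map π)),
      inferInstanceAs (IsIso (DerivedCategory.Q.map π'))⟩
  refine (hasEnough₂.isIso_app_iff (W := DTen.qis₂ A) (DTen.LTen₂ A) (DTen.ε A)
    (Prod.mkHom π π') (isGood₂ P P')).2 ?_
  change IsIso (DerivedCategory.Q.map (π ▷ P' ≫ K ◁ π'))
  have h1 : QuasiIso (π ▷ P') := KFlat.quasiIso_whiskerRight (isKFlat_kproj P') π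
  have h2 : QuasiIso (K ◁ π') := by
    rcases h with h | h
    · exact KFlat.quasiIso_whiskerLeft h π'
    · exact KFlat.quasiIso_whiskerLeft_of_kflat π' (isKFlat_kproj P') h K
  infer_instance

lemma isGood₃ (P L M : DRing.Cx A) [P.IsKProjective] [L.IsKProjective] [M.IsKProjective] :
    LeftDerived.IsGood (DTen.QQQ A) (DTen.tensor₃ A) (P, (L, M)) where
  fac Y φ := by
    obtain ⟨f, hf⟩ := DBasic.exists_Q_map_eq φ.1
    obtain ⟨g, hg⟩ := (isGood₂ L M).fac φ.2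
    exact ⟨Prod.mkHom f g, Prod.ext hf hg⟩
  eq Y g g' h := by
    obtain ⟨e₁⟩ := (DBasic.Q_map_eq_iff g.1 g'.1).1 (congrArg (·.1) h)
    obtain ⟨e₂⟩ := (DBasic.Q_map_eq_iff g.2.1 g'.2.1).1 (congrArg (·.2.1) h)
    obtain ⟨e₃⟩ := (DBasic.Q_map_eq_iff g.2.2 g'.2.2).1 (congrArg (·.2.2) h)
    change DerivedCategory.Q.map (g.1 ▷ (L ⊗ M) ≫ Y.1 ◁ (g.2.1 ▷ M ≫ Y.2.1 ◁ g.2.2)) =
      DerivedCategory.Q.map (g'.1 ▷ (L ⊗ M) ≫ Y.1 ◁ (g'.2.1 ▷ M ≫ Y.2.1 ◁ g'.2.2))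
    rw [Functor.map_comp, Functor.map_comp, LTensor.Q_map_whiskerRight_eq (L ⊗ M) e₁]
    congr 1
    refine Q_map_whiskerLeft_eq Y.1 (Homotopy.comp ?_ (Tensor.whiskerLeftHomotopy Y.2.1 e₃))
    exact (HomotopyCategory.homotopyOfEq _ _ (by
      rw [Tensor.whiskerRight_eq, Tensor.whiskerRight_eq, Functor.map_comp, Functor.map_comp,
        Functor.map_comp, Functor.map_comp,
        HomotopyCategory.eq_of_homotopy _ _ (Tensor.whiskerLeftHomotopy M e₂)]))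

lemma hasEnough₃ : LeftDerived.HasEnough (DTen.QQQ A) (DTen.tensor₃ A) := by
  rintro ⟨K, L, M⟩
  obtain ⟨P, π, hP, hπ⟩ := exists_kproj_res K
  obtain ⟨P', π', hP', hπ'⟩ := exists_kproj_res L
  obtain ⟨P'', π'', hP'', hπ''⟩ := exists_kproj_res M
  refine ⟨(P, (P', P'')), Prod.mkHom π (Prod.mkHom π' π''), isGood₃ P P' P'', ?_⟩
  rw [isIso_prod_iff]
  refine ⟨inferInstanceAs (IsIso (DerivedCategory.Q.map π)), ?_⟩
  change IsIso ((DTen.QQ A).map (Prod.mkHom π' π''))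
  rw [isIso_prod_iff]
  exact ⟨inferInstanceAs (IsIso (DerivedCategory.Q.map π')),
    inferInstanceAs (IsIso (DerivedCategory.Q.map π''))⟩

theorem isIso_ε₃_of_kproj [DTen.HasLTen₃ A] (P L M : DRing.Cx A) [P.IsKProjective] [L.IsKProjective]
    [M.IsKProjective] : IsIso ((DTen.ε₃ A).app (P, (L, M))) :=
  hasEnough₃.isIso_app (W := DTen.qis₃ A) (DTen.LTen₃ A) (DTen.ε₃ A) (isGood₃ P L M)

section Assoc

variable [DTen.HasLTen A] [DTen.HasLTen₃ A]

lemma isIso_assocR_kproj (P L M : DRing.Cx A) [P.IsKProjective] [L.IsKProjective]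
    [M.IsKProjective] : IsIso ((DTen.assocR A).app ((DTen.QQQ A).obj (P, (L, M)))) := by
  have h1 := isIso_ε L M (Or.inl (isKFlat_kproj L))
  have h2 := isIso_ε P (L ⊗ M) (Or.inl (isKFlat_kproj P))
  have h3 := isIso_ε₃_of_kproj P L M
  have h5 : IsIso (Prod.mkHom (𝟙 (DerivedCategory.Q.obj P)) ((DTen.ε A).app (L, M))) := by
    rw [isIso_prod_iff]; exact ⟨inferInstanceAs (IsIso (𝟙 _)), h1⟩
  have h4 : IsIso ((DTen.βR A).app (P, (L, M))) := by
    dsimp [DTen.βR]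
    infer_instance
  rw [← DTen.assocR_fac] at h4
  exact IsIso.of_isIso_comp_right _ ((DTen.ε₃ A).app (P, (L, M)))

lemma isIso_assocL_kproj (P L M : DRing.Cx A) [P.IsKProjective] [L.IsKProjective]
    [M.IsKProjective] : IsIso ((DTen.assocL A).app ((DTen.QQQ A).obj (P, (L, M)))) := by
  have h1 := isIso_ε P L (Or.inl (isKFlat_kproj P))
  have h2 := isIso_ε (P ⊗ L) M (Or.inr (isKFlat_kproj M))
  have h3 := isIso_ε₃_of_kproj P L M
  have h5 : IsIso (Prod.mkHom ((DTen.ε A).app (P, L)) (𝟙 (DerivedCategory.Q.obj M))) := by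
    rw [isIso_prod_iff]; exact ⟨h1, inferInstanceAs (IsIso (𝟙 _))⟩
  have h4 : IsIso ((DTen.βL A).app (P, (L, M))) := by
    dsimp [DTen.βL]
    have h6 : IsIso ((DTen.LTen₂ A).map (Prod.mkHom ((DTen.ε A).app (P, L))
        (𝟙 (DerivedCategory.Q.obj M)))) := Functor.map_isIso _ _
    exact IsIso.comp_isIso' h6 (IsIso.comp_isIso' h2 (Functor.map_isIso _ _))
  rw [← DTen.assocL_fac] at h4
  exact IsIso.of_isIso_comp_right _ ((DTen.ε₃ A).app (P, (L, M)))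

end Assoc

lemma exists_QQQ_iso (a b c : Dual.D A) : ∃ (P L M : DRing.Cx A), P.IsKProjective ∧ L.IsKProjective ∧
    M.IsKProjective ∧ Nonempty (((a, (b, c)) : Dual.D A × (Dual.D A × Dual.D A)) ≅
      (DTen.QQQ A).obj (P, (L, M))) := by
  obtain ⟨P, hP, -, ⟨e⟩⟩ := DBasic.exists_kproj_iso a
  obtain ⟨L, hL, -, ⟨e'⟩⟩ := DBasic.exists_kproj_iso b
  obtain ⟨M, hM, -, ⟨e''⟩⟩ := DBasic.exists_kproj_iso c
  exact ⟨P, L, M, hP, hL, hM, ⟨Iso.prod e.symm (Iso.prod e'.symm e''.symm)⟩⟩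

/-- Transporting "iso component" along an iso of objects. -/
lemma isIso_app_of_iso {C D : Type*} [Category C] [Category D] {F G : C ⥤ D} (τ : F ⟶ G) {X Y : C}
    (e : X ≅ Y) (h : IsIso (τ.app Y)) : IsIso (τ.app X) := by
  have : τ.app X = F.map e.hom ≫ τ.app Y ≫ G.map e.inv := by
    rw [← τ.naturality, ← Category.assoc, ← F.map_comp, e.hom_inv_id, F.map_id, Category.id_comp]
  rw [this]
  infer_instance

end Groth.Agent.DTenLib
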