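import Groth.Agent.DTenLib.BC

/-!
# The action map `E ⊗ X ⟶ res (ext X)` for a resolution `E` of the target ring
-/

universe u
open CategoryTheory CategoryTheory.Limits MonoidalCategory TensorProduct
attribute [local instance] HasDerivedCategory.standard

namespace Groth.Agent.DTenLib

open Groth.Agent.DRing

variable {R R' : Type u} [CommRing R] [CommRing R'] (φ : R →+* R')

/-- The unit element in degree zero. -/
noncomputable def one₀ : (𝟙_ (DRing.Cx R')).X 0 :=
  (HomologicalComplex.singleObjXSelf (V := ModuleCat.{u} R') (ComplexShape.up ℤ) 0 (𝟙_ (ModuleCat.{u} R'))).inv.hom (1 : R')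

/-- The degree zero coordinate. -/
noncomputable def coord₀ (v : (𝟙_ (DRing.Cx R')).X 0) : R' :=
  (HomologicalComplex.singleObjXSelf (V := ModuleCat.{u} R') (ComplexShape.up ℤ) 0 (𝟙_ (ModuleCat.{u} R'))).hom.hom v

lemma coord₀_smul_one₀ (v : (𝟙_ (DRing.Cx R')).X 0) : coord₀ v • (one₀ : (𝟙_ (DRing.Cx R')).X 0) = v := by
  rw [one₀, ← map_smul]
  change (HomologicalComplex.singleObjXSelf (V := ModuleCat.{u} R') (ComplexShape.up ℤ) 0 (𝟙_ (ModuleCat.{u} R'))).inv.hom (coord₀ v * 1) = v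
  rw [mul_one, coord₀, ← LinearMap.comp_apply, ← ModuleCat.hom_comp, Iso.hom_inv_id]
  rfl

lemma coord₀_smul (c : R') (v : (𝟙_ (DRing.Cx R')).X 0) : coord₀ (c • v) = c * coord₀ v :=
  map_smul _ c v

lemma coord₀_one₀ : coord₀ (one₀ : (𝟙_ (DRing.Cx R')).X 0) = 1 := by
  rw [coord₀, one₀, ← LinearMap.comp_apply, ← ModuleCat.hom_comp, Iso.inv_hom_id]
  rfl

lemma unit_eq_zero {p : ℤ} (hp : p ≠ 0) (v : (𝟙_ (DRing.Cx R')).X p) : v = 0 := by
  have := ModuleCat.subsingleton_of_isZero
    (HomologicalComplex.isZero_single_obj_X (ComplexShape.up ℤ) (0 : ℤ) (𝟙_ (ModuleCat.{u} R')) p hp)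
  exact Subsingleton.elim (α := ((HomologicalComplex.single (ModuleCat.{u} R') (ComplexShape.up ℤ) 0).obj
    (𝟙_ (ModuleCat.{u} R'))).X p) _ _

lemma leftUnitor_tm {K : DRing.Cx R'} {q : ℤ} (v : (𝟙_ (DRing.Cx R')).X 0) (x : K.X q) :
    ((λ_ K).hom.f q).hom (tm (𝟙_ (DRing.Cx R')) K (zero_add q) v x) = coord₀ v • x := by
  have h : ((λ_ K).inv.f q).hom (coord₀ v • x) = tm (𝟙_ (DRing.Cx R')) K (zero_add q) v x := by
    rw [map_smul]
    have h0 : ((λ_ K).inv.f q).hom x = tm (𝟙_ (DRing.Cx R')) K (zero_add q) one₀ x :=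
      congrArg (fun f => f.hom x) (HomologicalComplex.leftUnitor'_inv K q)
    rw [h0, ← tm_smul_left, coord₀_smul_one₀]
  rw [← h, ← LinearMap.comp_apply, ← ModuleCat.hom_comp, ← HomologicalComplex.comp_f, Iso.inv_hom_id]
  rfl

/-- The action of `res 𝟙` on restricted complexes. -/
noncomputable def actU (X' : DRing.Cx R') :
    (DTen.resCx φ).obj (𝟙_ (DRing.Cx R')) ⊗ (DTen.resCx φ).obj X' ⟶ (DTen.resCx φ).obj X' :=
  DTen.resTenCx φ (𝟙_ (DRing.Cx R')) X' ≫ (DTen.resCx φ).map (λ_ X').hom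

lemma actU_natural {X' Y' : DRing.Cx R'} (f : X' ⟶ Y') :
    actU φ X' ≫ (DTen.resCx φ).map f =
      (DTen.resCx φ).obj (𝟙_ (DRing.Cx R')) ◁ (DTen.resCx φ).map f ≫ actU φ Y' := by
  have h := DTen.resTenCx_naturality φ (𝟙 (𝟙_ (DRing.Cx R'))) f
  rw [CategoryTheory.Functor.map_id, MonoidalCategory.id_tensorHom, MonoidalCategory.id_tensorHom] at h
  rw [actU, actU, Category.assoc, ← Functor.map_comp, ← MonoidalCategory.leftUnitor_naturality,
    Functor.map_comp, ← Category.assoc, ← h, Category.assoc]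

lemma actU_tm {X' : DRing.Cx R'} {q : ℤ} (v : (𝟙_ (DRing.Cx R')).X 0) (x : X'.X q) :
    ((actU φ X').f q).hom (tm ((DTen.resCx φ).obj (𝟙_ (DRing.Cx R'))) ((DTen.resCx φ).obj X')
      (zero_add q) v x) = (coord₀ v • x : X'.X q) := by
  rw [actU]
  simp only [HomologicalComplex.comp_f, ModuleCat.hom_comp, LinearMap.comp_apply]
  erw [congrArg (fun f => f.hom ((show ((DTen.resCx φ).obj (𝟙_ (DRing.Cx R'))).X 0 from v) ⊗ₜ[R]
      (show ((DTen.resCx φ).obj X').X q from x)))
    (DTen.ι_resTenCx φ (𝟙_ (DRing.Cx R')) X' 0 q q (zero_add q))]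
  exact leftUnitor_tm v x

/-- `res 𝟙 ⊗ X ⟶ res (ext X)`. -/
noncomputable def beta (X : DRing.Cx R) :
    (DTen.resCx φ).obj (𝟙_ (DRing.Cx R')) ⊗ X ⟶ (DTen.resCx φ).obj ((DTen.extCx φ).obj X) :=
  (DTen.resCx φ).obj (𝟙_ (DRing.Cx R')) ◁ (DTen.unitCx φ).app X ≫ actU φ ((DTen.extCx φ).obj X)

lemma isIso_beta (X : DRing.Cx R) : IsIso (beta φ X) := by
  refine isIso_of_bijective _ fun n => ?_
  let U := (DTen.resCx φ).obj (𝟙_ (DRing.Cx R'))
  let one : R' →ₗ[R'] (𝟙_ (DRing.Cx R')).X 0 := LinearMap.toSpanSingleton R' _ one₀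
  let inv₀ : ((DTen.resCx φ).obj ((DTen.extCx φ).obj X)).X n →+ (U ⊗ X).X n :=
    (TensorProduct.lift (R := R) ((tmBil U X (zero_add n)).comp
      ((ModuleCat.restrictScalars φ).map (ModuleCat.ofHom one)).hom) :
        TensorProduct R ((ModuleCat.restrictScalars φ).obj (ModuleCat.of R' R')) (X.X n) →ₗ[R] (U ⊗ X).X n).toAddMonoidHom
  have hβ : ∀ (v : (𝟙_ (DRing.Cx R')).X 0) (x : X.X n),
      ((beta φ X).f n).hom (tm U X (zero_add n) v x) =
        (coord₀ v • (show ((DTen.extCx φ).obj X).X n from (((DTen.unitCx φ).app X).f n).hom x)) := fun v x => by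
    rw [beta]
    simp only [HomologicalComplex.comp_f, ModuleCat.hom_comp, LinearMap.comp_apply]
    erw [whiskerLeft_tm]
    exact actU_tm φ v _
  have h2 : ∀ z, inv₀ (((beta φ X).f n).hom z) = z := by
    intro z
    have : ∀ p q (h : p + q = n) (v : U.X p) (x : X.X q),
        inv₀ (((beta φ X).f n).hom (tm U X h v x)) = tm U X h v x := by
      intro p q h v x
      by_cases hp : p = 0
      · subst hp
        obtain rfl : q = n := by omega
        refine (congrArg inv₀ (hβ v x)).trans ?_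
        refine (congrArg inv₀ (show coord₀ (R' := R') v • (show ((DTen.extCx φ).obj X).X q from
          (((DTen.unitCx φ).app X).f q).hom x) =
          ((coord₀ (R' := R') v * 1) ⊗ₜ[R] x : TensorProduct R ((ModuleCat.restrictScalars φ).obj (ModuleCat.of R' R')) (X.X q))
            from rfl)).trans ?_
        refine (TensorProduct.lift.tmul (R := R) (f' := (tmBil U X (zero_add q)).comp
          ((ModuleCat.restrictScalars φ).map (ModuleCat.ofHom one)).hom) _ _).trans ?_
        change tm U X (zero_add q) (one (coord₀ (R' := R') v * 1)) x = _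
        rw [mul_one]
        exact congrArg (fun w => tm U X _ w x) (coord₀_smul_one₀ (R' := R') v)
      · rw [show v = 0 from unit_eq_zero (R' := R') hp v, tm_zero_left, map_zero, map_zero]
    let f : (U ⊗ X).X n →ₗ[R] (U ⊗ X).X n :=
      (TensorProduct.lift (R := R) ((tmBil U X (zero_add n)).comp
        ((ModuleCat.restrictScalars φ).map (ModuleCat.ofHom one)).hom) :
          TensorProduct R ((ModuleCat.restrictScalars φ).obj (ModuleCat.of R' R')) (X.X n) →ₗ[R] (U ⊗ X).X n).comp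
        ({ toFun := fun z => ((beta φ X).f n).hom z
           map_add' := map_add _
           map_smul' := fun r z => by
            refine (map_smul ((beta φ X).f n).hom r z).trans ?_
            exact (SingleTensor.restrictExtendApp φ (X.X n)).hom.hom.map_smul r _ } :
          (U ⊗ X).X n →ₗ[R] TensorProduct R ((ModuleCat.restrictScalars φ).obj (ModuleCat.of R' R')) (X.X n))
    have hf : ModuleCat.ofHom f = 𝟙 ((U ⊗ X).X n) := hom_ext_tm this
    exact congrArg (fun g => g.hom z) hf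
  refine ⟨Function.HasLeftInverse.injective ⟨inv₀, h2⟩, fun w => ?_⟩
  refine ⟨inv₀ w, ?_⟩
  induction (show TensorProduct R ((ModuleCat.restrictScalars φ).obj (ModuleCat.of R' R')) (X.X n) from w)
    using TensorProduct.induction_on with
  | zero => exact (congrArg _ (map_zero inv₀)).trans (map_zero _)
  | tmul c x =>
    rw [show inv₀ _ = _ from TensorProduct.lift.tmul (R := R) (f' := (tmBil U X (zero_add n)).comp
      ((ModuleCat.restrictScalars φ).map (ModuleCat.ofHom one)).hom) c x]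
    change ((beta φ X).f n).hom (tm U X (zero_add n) (one c) x) = _
    refine (hβ (one c) x).trans ?_
    change coord₀ ((show R' from c) • (one₀ : (𝟙_ (DRing.Cx R')).X 0)) • _ = _
    rw [coord₀_smul, coord₀_one₀, mul_one]
    exact congrArg (fun t => (t ⊗ₜ[R] x : TensorProduct R
      ((ModuleCat.restrictScalars φ).obj (ModuleCat.of R' R')) (X.X n))) (mul_one (show R' from c))
  | add a b ha hb => exact (congrArg _ (map_add inv₀ a b)).trans ((map_add _ _ _).trans (congrArg₂ (· + ·) ha hb))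

variable {E : DRing.Cx R} (ι : E ⟶ (DTen.resCx φ).obj (𝟙_ (DRing.Cx R')))

/-- The action on restricted complexes. -/
noncomputable def act' (X' : DRing.Cx R') : E ⊗ (DTen.resCx φ).obj X' ⟶ (DTen.resCx φ).obj X' :=
  ι ▷ (DTen.resCx φ).obj X' ≫ actU φ X'

/-- `E ⊗ X ⟶ res (ext X)`. -/
noncomputable def act (X : DRing.Cx R) : E ⊗ X ⟶ (DTen.resCx φ).obj ((DTen.extCx φ).obj X) :=
  E ◁ (DTen.unitCx φ).app X ≫ act' φ ι ((DTen.extCx φ).obj X)

lemma act'_natural {X' Y' : DRing.Cx R'} (f : X' ⟶ Y') :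
    act' φ ι X' ≫ (DTen.resCx φ).map f = E ◁ (DTen.resCx φ).map f ≫ act' φ ι Y' := by
  rw [act', act', Category.assoc, actU_natural, whisker_exchange_assoc]

lemma act_natural {X Y : DRing.Cx R} (f : X ⟶ Y) :
    act φ ι X ≫ (DTen.resCx φ).map ((DTen.extCx φ).map f) = E ◁ f ≫ act φ ι Y := by
  have h := (DTen.unitCx φ).naturality f
  dsimp at h
  rw [act, act, Category.assoc, act'_natural, ← Category.assoc, ← whiskerLeft_comp, ← h,
    whiskerLeft_comp, Category.assoc]

lemma act'_tm {X' : DRing.Cx R'} {q : ℤ} (e : E.X 0) (x : X'.X q) :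
    ((act' φ ι X').f q).hom (tm E ((DTen.resCx φ).obj X') (zero_add q) e x) =
      (coord₀ (R' := R') ((ι.f 0).hom e) • x : X'.X q) := by
  rw [act']
  simp only [HomologicalComplex.comp_f, ModuleCat.hom_comp, LinearMap.comp_apply]
  erw [whiskerRight_tm]
  exact actU_tm φ _ x

lemma act'_tm_ne {X' : DRing.Cx R'} {p q n : ℤ} (h : p + q = n) (hp : p ≠ 0) (e : E.X p) (x : X'.X q) :
    ((act' φ ι X').f n).hom (tm E ((DTen.resCx φ).obj X') h e x) = 0 := by
  rw [act']
  simp only [HomologicalComplex.comp_f, ModuleCat.hom_comp, LinearMap.comp_apply]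
  erw [whiskerRight_tm]
  rw [show (ι.f p).hom e = 0 from unit_eq_zero (R' := R') hp _, tm_zero_left, map_zero]

lemma act_eq (X : DRing.Cx R) : act φ ι X = ι ▷ X ≫ beta φ X := by
  rw [act, act', beta]
  erw [whisker_exchange_assoc]

lemma quasiIso_act [QuasiIso ι] (X : DRing.Cx R) (hX : DRing.IsKFlat R X) : QuasiIso (act φ ι X) := by
  have := isIso_beta φ X
  have : QuasiIso (ι ▷ X) := KFlat.quasiIso_whiskerRight hX ι
  rw [act_eq]
  infer_instance

lemma cv_omega_apply {P : DRing.Cx R} {Y : DRing.Cx R'} {n : ℤ}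
    (z : (DRing.homCx ((DTen.extCx φ).obj P) Y).X n) (p q : ℤ) (h : p + n = q) (x : P.X p) :
    (cv (((omega φ P Y).f n).hom z) p q h).hom x =
      (cv z p q h).hom ((((DTen.unitCx φ).app P).f p).hom x) := by
  rw [cv_omega, Adjunction.homEquiv_unit]
  rfl

lemma act'_omega (P : DRing.Cx R) (Y' : DRing.Cx R') :
    act' φ ι (DRing.homCx ((DTen.extCx φ).obj P) Y') ≫ omega φ P Y' =
      E ◁ omega φ P Y' ≫ etaTen E P ((DTen.resCx φ).obj Y') ≫ DRing.homCxMap P (act' φ ι Y') := by
  refine HomologicalComplex.hom_ext _ _ fun n => hom_ext_tm fun p q h e z =>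
    cv_ext fun r s hrs => ModuleCat.hom_ext (LinearMap.ext fun w => ?_)
  change (cv (((omega φ P Y').f n).hom (((act' φ ι _).f n).hom
      (tm E ((DTen.resCx φ).obj _) h e z))) r s hrs).hom w =
    (cv (((DRing.homCxMap P (act' φ ι Y')).f n).hom (((etaTen E P ((DTen.resCx φ).obj Y')).f n).hom
      (((E ◁ omega φ P Y').f n).hom (tm E ((DTen.resCx φ).obj _) h e z)))) r s hrs).hom w
  rw [cv_omega_apply, cv_post, whiskerLeft_tm, ModuleCat.hom_comp, LinearMap.comp_apply, etaTen_tm,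
    cv_omega_apply]
  by_cases hp : p = 0
  · subst hp
    obtain rfl : q = n := by omega
    rw [act'_tm φ ι e z]
    have hgen : ∀ (s' : ℤ) (h' : 0 + s' = s) (hz : r + q = s'),
        ((act' φ ι Y').f s).hom (tm E ((DTen.resCx φ).obj Y') h' e
          ((cv z r s' hz).hom (((DTen.unitCx φ).app P).f r |>.hom w))) =
        coord₀ (R' := R') ((ι.f 0).hom e) • (cv z r s hrs).hom (((DTen.unitCx φ).app P).f r |>.hom w) := by
      intro s' h' hz
      obtain rfl : s' = s := by omega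
      exact act'_tm φ ι e _
    exact (hgen _ _ _).symm
  · rw [act'_tm_ne φ ι h hp e z, act'_tm_ne φ ι _ hp]
    rfl

end Groth.Agent.DTenLib
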