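import Groth.Agent.DTenLib.BC

/-!
# The base change map of derived hom is an isomorphism for perfect sources
-/

universe u
open CategoryTheory CategoryTheory.Limits MonoidalCategory
attribute [local instance] HasDerivedCategory.standard

namespace Groth.Agent.DTenLib

open Groth.Agent.DRing

variable {R R' : Type u} [CommRing R] [CommRing R'] (φ : R →+* R')
  [DTen.HasLTen R] [DTen.HasLTen R'] [DTen.HasRHom R] [DTen.HasRHom R'] [DTen.HasLBase φ]
  [DTen.HasResTen φ] [DTen.ResLegIso φ]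

local instance isIso_rhomBC' (K : Dual.D R) (M : Dual.D R') : IsIso (DTen.rhomBC φ K M) :=
  isIso_rhomBC φ K M

lemma homEquiv_bcRHom (K M : Dual.D R) :
    (DTen.baseAdj φ).homEquiv _ _ (DTen.bcRHom φ K M) =
      (DTen.RHomR R K).map ((DTen.baseAdj φ).unit.app M) ≫ inv (DTen.rhomBC φ K ((DTen.LBase φ).obj M)) :=
  Equiv.apply_symm_apply _ _

lemma rhomBC_natural_K {K K' : Dual.D R} (k : K' ⟶ K) (M : Dual.D R') :
    (DRing.restrictD φ).map (DTen.RHomMap ((DTen.LBase φ).map k) M) ≫ DTen.rhomBC φ K' M =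
      DTen.rhomBC φ K M ≫ DTen.RHomMap k ((DRing.restrictD φ).obj M) := by
  apply (DTen.rhomHomEquiv _ _ _).symm.injective
  rw [symm_homEquiv_comp, symm_homEquiv_RHomMap, DTen.rhomBC, DTen.rhomBC, Equiv.symm_apply_apply,
    Equiv.symm_apply_apply, DTen.rhomBCCore, DTen.rhomBCCore]
  change LT _ (𝟙 K') ≫ LT (𝟙 _) ((DTen.baseAdj φ).unit.app K') ≫ _ =
    LT (𝟙 _) k ≫ LT (𝟙 _) ((DTen.baseAdj φ).unit.app K) ≫ _
  rw [LT_comp_assoc, LT_comp_assoc, Category.comp_id, Category.id_comp, Category.comp_id]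
  have e1 : LT ((DRing.restrictD φ).map (DTen.RHomMap ((DTen.LBase φ).map k) M))
      ((DTen.baseAdj φ).unit.app K') =
      LT (𝟙 _) ((DTen.baseAdj φ).unit.app K') ≫ LT ((DRing.restrictD φ).map
        (DTen.RHomMap ((DTen.LBase φ).map k) M)) ((DRing.restrictD φ).map (𝟙 _)) := by
    rw [LT_comp, CategoryTheory.Functor.map_id, Category.id_comp]
    erw [Category.comp_id]
  rw [e1, Category.assoc, resPF_natural_assoc, ← Functor.map_comp, ev_dinatural, Functor.map_comp]
  erw [← resPF_natural_assoc (φ := φ) (𝟙 _) ((DTen.LBase φ).map k)]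
  rw [CategoryTheory.Functor.map_id, LT_comp_assoc, Category.id_comp]
  congr 2
  exact ((DTen.baseAdj φ).unit.naturality k).symm

lemma bcRHom_natural {K K' M M' : Dual.D R} (k : K' ⟶ K) (m : M ⟶ M') :
    (DTen.LBase φ).map (DTen.RHomMap k M ≫ (DTen.RHomR R K').map m) ≫ DTen.bcRHom φ K' M' =
      DTen.bcRHom φ K M ≫ DTen.RHomMap ((DTen.LBase φ).map k) ((DTen.LBase φ).obj M) ≫
        (DTen.RHomR R' ((DTen.LBase φ).obj K')).map ((DTen.LBase φ).map m) := by
  apply ((DTen.baseAdj φ).homEquiv _ _).injective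
  rw [Adjunction.homEquiv_naturality_left, Adjunction.homEquiv_naturality_right, homEquiv_bcRHom,
    homEquiv_bcRHom, ← cancel_mono (DTen.rhomBC φ K' ((DTen.LBase φ).obj M'))]
  simp only [Category.assoc, IsIso.inv_hom_id, Category.comp_id, Functor.map_comp]
  rw [rhomBC_natural, reassoc_of% (rhomBC_natural_K φ k ((DTen.LBase φ).obj M)), IsIso.inv_hom_id_assoc]
  have h1 : DTen.RHomMap k M ≫ (DTen.RHomR R K').map ((DTen.baseAdj φ).unit.app M) =
      (DTen.RHomR R K).map ((DTen.baseAdj φ).unit.app M) ≫ DTen.RHomMap k _ :=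
    (((DTen.RHom R).map k.op).naturality ((DTen.baseAdj φ).unit.app M)).symm
  rw [← reassoc_of% h1]
  congr 1
  rw [← Functor.map_comp, ← Functor.map_comp]
  exact congrArg (DTen.RHomR R K').map ((DTen.baseAdj φ).unit.naturality m)

lemma bcRHom_comp (P Y : DRing.Cx R) :
    (DTen.baseCmp φ).app (DRing.homCx P Y) ≫ DerivedCategory.Q.map (kappa φ P Y) ≫
        theta ((DTen.extCx φ).obj P) ((DTen.extCx φ).obj Y) ≫
          DTen.RHomMap ((DTen.baseCmp φ).app P) (DerivedCategory.Q.obj ((DTen.extCx φ).obj Y)) =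
      (DTen.LBase φ).map (theta P Y) ≫ DTen.bcRHom φ (DerivedCategory.Q.obj P) (DerivedCategory.Q.obj Y) ≫
        (DTen.RHomR R' ((DTen.LBase φ).obj (DerivedCategory.Q.obj P))).map ((DTen.baseCmp φ).app Y) := by
  apply ((DTen.baseAdj φ).homEquiv _ _).injective
  rw [← Category.assoc ((DTen.baseCmp φ).app _)]
  refine ((DTen.baseAdj φ).homEquiv_naturality_right _ _).trans ?_
  refine Eq.trans ?_ (((DTen.baseAdj φ).homEquiv_naturality_left _ _).trans
    (congrArg (theta P Y ≫ ·) ((DTen.baseAdj φ).homEquiv_naturality_right _ _))).symm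
  rw [Adjunction.homEquiv_unit]
  erw [baseCmp_adjunct φ (kappa φ P Y), homEquiv_bcRHom]
  rw [← cancel_mono (DTen.rhomBC φ (DerivedCategory.Q.obj P) (DerivedCategory.Q.obj ((DTen.extCx φ).obj Y))),
    ← cancel_mono ((DTen.RHomR R (DerivedCategory.Q.obj P)).map
      ((DTen.resFactors φ).hom.app ((DTen.extCx φ).obj Y)))]
  simp only [Category.assoc]
  erw [rhomBC_comp φ P ((DTen.extCx φ).obj Y)]
  erw [← Category.assoc, ← Functor.map_comp, adjunct_kappa_omega]
  erw [reassoc_of% (rhomBC_natural φ (DerivedCategory.Q.obj P) ((DTen.baseCmp φ).app Y))]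
  erw [IsIso.inv_hom_id_assoc]
  rw [← Functor.map_comp, ← Functor.map_comp]
  erw [theta_post]
  congr 2
  erw [← Category.assoc, DTen.baseCmp_fac φ Y]
  dsimp [DTen.baseγ]
  erw [Category.assoc, Iso.inv_hom_id_app, Category.comp_id]

theorem isIso_bcRHom (K M : Dual.D R) (hK : DRing.IsPerfect R K) : IsIso (DTen.bcRHom φ K M) := by
  obtain ⟨P, x, y, hb, hf, ⟨a⟩⟩ := hK
  have hP : P.IsKProjective :=
    DBasic.isKProjective_of_projective P y (fun i hi => hb i (Or.inr hi)) (fun i => (hf i).2)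
  obtain ⟨D⟩ := nonempty_dualData hb hf
  obtain ⟨Y, hY, -, ⟨c⟩⟩ := DBasic.exists_kproj_iso M
  have hC := isKProjective_homCx (L := Y) D
  have hext := isKProjective_extCx φ P
  have h0 : IsIso (DTen.bcRHom φ (DerivedCategory.Q.obj P) (DerivedCategory.Q.obj Y)) := by
    have h1 := isIso_baseCmp_kproj φ (DRing.homCx P Y)
    have h2 := isIso_kappa φ D Y
    have h3 := isIso_theta ((DTen.extCx φ).obj P) ((DTen.extCx φ).obj Y)
    have h4 := isIso_baseCmp_kproj φ P
    have h5 := isIso_baseCmp_kproj φ Y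
    have h6 := isIso_theta P Y
    have hl : IsIso ((DTen.baseCmp φ).app (DRing.homCx P Y) ≫ DerivedCategory.Q.map (kappa φ P Y) ≫
        theta ((DTen.extCx φ).obj P) ((DTen.extCx φ).obj Y) ≫
          DTen.RHomMap ((DTen.baseCmp φ).app P) (DerivedCategory.Q.obj ((DTen.extCx φ).obj Y))) :=
      IsIso.comp_isIso' h1 (IsIso.comp_isIso' (Functor.map_isIso _ _)
        (IsIso.comp_isIso' h3 (isIso_RHomMap _ h4 _)))
    rw [bcRHom_comp] at hl
    have i1 : IsIso ((DTen.LBase φ).map (theta P Y)) := Functor.map_isIso _ _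
    have i2 : IsIso ((DTen.RHomR R' ((DTen.LBase φ).obj (DerivedCategory.Q.obj P))).map
        ((DTen.baseCmp φ).app Y)) := @Functor.map_isIso _ _ _ _ _ _ _ _ h5
    have i3 := @IsIso.of_isIso_comp_left _ _ _ _ _ _ _ i1 hl
    exact @IsIso.of_isIso_comp_right _ _ _ _ _ _ _ i2 i3
  have hn := bcRHom_natural φ a.inv c.hom
  have j1 : IsIso ((DTen.LBase φ).map (DTen.RHomMap a.inv (DRing.toD Y) ≫ (DTen.RHomR R K).map c.hom)) :=
    @Functor.map_isIso _ _ _ _ _ _ _ _ (IsIso.comp_isIso' (isIso_RHomMap a.inv inferInstance _)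
      (Functor.map_isIso _ _))
  have j2 : IsIso (DTen.RHomMap ((DTen.LBase φ).map a.inv) ((DTen.LBase φ).obj (DRing.toD Y)) ≫
      (DTen.RHomR R' ((DTen.LBase φ).obj K)).map ((DTen.LBase φ).map c.hom)) :=
    IsIso.comp_isIso' (isIso_RHomMap _ inferInstance _) (Functor.map_isIso _ _)
  have j3 := IsIso.comp_isIso' h0 j2
  erw [← hn] at j3
  exact @IsIso.of_isIso_comp_left _ _ _ _ _ _ _ j1 j3

end Groth.Agent.DTenLib
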