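import Groth.Agent.DTenLib.EvalCx

/-!
# Evaluation maps of Hom complexes on complexes of finite projectives which are degreewise finitely supported
-/

universe u
open CategoryTheory CategoryTheory.Limits MonoidalCategory TensorProduct
open CochainComplex CochainComplex.HomComplex

namespace Groth.Agent.DTenLib

open Groth.Agent.DRing

variable {A : Type u} [CommRing A]

/-- Dual bases of all terms. -/
structure DualBases (P : DRing.Cx A) where
  size : ℤ → ℕ
  e : ∀ p, Fin (size p) → P.X p
  φ : ∀ p, Fin (size p) → (P.X p →ₗ[A] A)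
  sum_eq : ∀ p (x : P.X p), ∑ i, φ p i x • e p i = x

lemma nonempty_dualBases {P : DRing.Cx A} (hf : DRing.TermwiseFiniteProjective P) :
    Nonempty (DualBases P) := by
  have h : ∀ p, ∃ (k : ℕ) (e : Fin k → P.X p) (φ : Fin k → (P.X p →ₗ[A] A)),
      ∀ x, ∑ i, φ i x • e i = x := fun p => by
    have := (hf p).1
    have := (hf p).2
    obtain ⟨k, f, g, -, -, hfg⟩ := Module.Finite.exists_comp_eq_id_of_projective A (P.X p)
    refine ⟨k, fun i => f (Pi.single i 1), fun i => (LinearMap.proj i).comp g, fun x => ?_⟩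
    conv_rhs => rw [← LinearMap.id_apply (R := A) x, ← hfg, LinearMap.comp_apply,
      pi_eq_sum_univ' (g x)]
    rw [map_sum]
    simp only [map_smul]
    rfl
  choose k e φ hsum using h
  exact ⟨⟨k, e, φ, hsum⟩⟩

variable {P N L Y : DRing.Cx A}

/-- A value of a cochain of degree `r` at a degree where source or target vanishes. -/
lemma cv_eq_zero {r p q : ℤ} (c : (DRing.homCx P L).X r) (h : p + r = q)
    (hz : (∀ x : P.X p, x = 0) ∨ (∀ y : L.X q, y = 0)) (x : P.X p) : (cv c p q h).hom x = 0 := by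
  rcases hz with hz | hz
  · rw [hz x, map_zero]
  · exact hz _

lemma sum_elemC' (D : DualBases P) (S : Finset ℤ) {r : ℤ} (c : (DRing.homCx P L).X r)
    (h0 : ∀ p, p ∉ S → ∀ x, (cv c p (p + r) rfl).hom x = 0) :
    ∑ p ∈ S, ∑ i, elemC (D.φ p i) r (p + r) rfl ((cv c p (p + r) rfl).hom (D.e p i)) = c := by
  refine cv_ext fun p₀ q₀ h₀ => ModuleCat.hom_ext (LinearMap.ext fun x => ?_)
  subst h₀
  rw [cv_sum]
  simp only [cv_sum]
  by_cases hp : p₀ ∈ S
  · rw [Finset.sum_eq_single p₀]
    · simp only [cv_elemC]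
      conv_rhs => rw [← D.sum_eq p₀ x, map_sum]
      simp only [map_smul]
    · intro p _ hne
      exact Finset.sum_eq_zero fun i _ => by rw [cv_elemC_ne _ _ _ _ _ _ _ _ (Ne.symm hne)]; rfl
    · exact fun h => absurd hp h
  · rw [h0 p₀ hp x]
    refine Finset.sum_eq_zero fun p hp' => Finset.sum_eq_zero fun i _ => ?_
    rw [cv_elemC_ne _ _ _ _ _ _ _ _ (fun h : p₀ = p => hp (by rw [h]; exact hp'))]
    rfl

section Ten

/-- `P ⊗ Hom•(N, Y) ⟶ Hom•(N, P ⊗ Y)` is bijective in degree `n` when only finitely many degrees of `N`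
matter. -/
lemma bijective_etaTen_right' (D : DualBases N) (n : ℤ) (S : Finset ℤ)
    (hS : ∀ r, r ∉ S → (∀ w : N.X r, w = 0) ∨
      ∀ p q, p + q = r + n → (∀ x : P.X p, x = 0) ∨ (∀ y : Y.X q, y = 0)) :
    Function.Bijective ((etaTen P N Y).f n).hom := by
  classical
  -- `x ⊗ y ↦ x ⊗ (w ↦ φ w • y)`
  let L : ∀ r, Fin (D.size r) → ((P ⊗ Y).X (r + n) ⟶ (P ⊗ DRing.homCx N Y).X n) := fun r j =>
    HomologicalComplex.mapBifunctorDesc fun p q (hpq : p + q = r + n) => ModuleCat.ofHom (TensorProduct.lift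
      (((tmBil P (DRing.homCx N Y) (show p + (q - r) = n by omega))).compl₂
        (elemC (D.φ r j) (q - r) q (by omega))))
  have L_tm : ∀ r j p q (hpq : p + q = r + n) (x : P.X p) (y : Y.X q),
      (L r j).hom (tm P Y hpq x y) =
        tm P _ (show p + (q - r) = n by omega) x (elemC (D.φ r j) (q - r) q (by omega) y) := by
    intro r j p q hpq x y
    change (Tensor.ιT P Y p q (r + n) hpq ≫ L r j).hom (x ⊗ₜ[A] y) = _
    erw [HomologicalComplex.ι_mapBifunctorDesc]
    rfl
  let inv : (DRing.homCx N (P ⊗ Y)).X n →ₗ[A] (P ⊗ DRing.homCx N Y).X n :=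
    ∑ r ∈ S, ∑ j, (L r j).hom.comp (cvAt (rfl : r + n = r + n) (D.e r j))
  have hL : ∀ r j (r' : ℤ) (w : N.X r'), (L r j ≫ (etaTen P N Y).f n) ≫ ModuleCat.ofHom
      (cvAt (rfl : r' + n = r' + n) w) =
      if hr : r' = r then D.φ r j ((N.XIsoOfEq hr).hom.hom w) • ((P ⊗ Y).XIsoOfEq (by rw [hr])).hom
      else 0 := by
    intro r j r' w
    refine hom_ext_tm fun p q hpq x y => ?_
    change (cv (((etaTen P N Y).f n).hom ((L r j).hom (tm P Y hpq x y))) r' (r' + n) rfl).hom w = _
    rw [L_tm, etaTen_tm]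
    by_cases hr : r' = r
    · subst hr
      rw [dif_pos rfl]
      refine (tm_cv_congr _ hpq x _ _ (show r' + (q - r') = q by omega) w).trans ?_
      rw [cv_elemC, tm_smul_right]
      rfl
    · rw [dif_neg hr, cv_elemC_ne _ _ _ _ _ _ _ _ hr, ModuleCat.hom_zero, LinearMap.zero_apply,
        tm_zero_right]
      rfl
  have h1 : ∀ Φ, ((etaTen P N Y).f n).hom (inv Φ) = Φ := fun Φ => by
    refine cv_ext fun r s hrs => ModuleCat.hom_ext (LinearMap.ext fun w => ?_)
    subst hrs
    simp only [inv, LinearMap.coe_sum, Finset.sum_apply, LinearMap.comp_apply, map_sum, cv_sum]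
    have e : ∀ r' j, (cv (((etaTen P N Y).f n).hom ((L r' j).hom ((cv Φ r' (r' + n) rfl).hom (D.e r' j))))
        r (r + n) rfl).hom w = _ := fun r' j =>
      congrArg (fun f => f.hom ((cv Φ r' (r' + n) rfl).hom (D.e r' j))) (hL r' j r w)
    refine (Finset.sum_congr rfl fun r' _ => Finset.sum_congr rfl fun j _ => e r' j).trans ?_
    by_cases hr : r ∈ S
    · rw [Finset.sum_eq_single r]
      · simp only [dif_pos]
        conv_rhs => rw [← D.sum_eq r w, map_sum]
        simp only [map_smul]
        rfl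
      · intro r' _ hne
        exact Finset.sum_eq_zero fun j _ => by rw [dif_neg (Ne.symm hne)]; rfl
      · exact fun h => absurd hr h
    · refine Eq.trans (Finset.sum_eq_zero fun r' hr' => Finset.sum_eq_zero fun j _ => ?_) ?_
      · rw [dif_neg (fun h : r = r' => hr (by rw [h]; exact hr'))]
        rfl
      · rcases hS r hr with hw | hw
        · rw [hw w, map_zero]
        · have : 𝟙 ((P ⊗ Y).X (r + n)) = 0 := hom_ext_tm fun p q hpq x y => by
            rcases hw p q hpq with hx | hy
            · rw [hx x, tm_zero_left, map_zero, map_zero]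
            · rw [hy y, tm_zero_right, map_zero, map_zero]
          exact (congrArg (fun f => f.hom ((cv Φ r (r + n) rfl).hom w)) this).symm
  have h2 : (etaTen P N Y).f n ≫ ModuleCat.ofHom inv = 𝟙 _ := by
    refine hom_ext_tm fun p₀ k h x c => ?_
    change inv (((etaTen P N Y).f n).hom (tm P _ h x c)) = tm P _ h x c
    simp only [inv, LinearMap.coe_sum, Finset.sum_apply, LinearMap.comp_apply, cvAt, LinearMap.coe_mk,
      AddHom.coe_mk]
    by_cases hx : ∀ z : P.X p₀, z = 0
    · rw [hx x, tm_zero_left, map_zero]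
      exact Finset.sum_eq_zero fun _ _ => Finset.sum_eq_zero fun _ _ => (map_zero _)
    conv_rhs => rw [← sum_elemC' D S c (fun r hr w => by
      rcases hS r hr with hw | hw
      · rw [hw w, map_zero]
      · rcases hw p₀ (r + k) (by omega) with hz | hz
        · exact absurd hz hx
        · exact hz _)]
    refine Eq.trans ?_ (map_sum (tmL P (DRing.homCx N Y) h x) _ _).symm
    refine Finset.sum_congr rfl fun r _ => ?_
    refine Eq.trans ?_ (map_sum (tmL P (DRing.homCx N Y) h x) _ _).symm
    refine Finset.sum_congr rfl fun j _ => ?_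
    rw [etaTen_tm, L_tm]
    have hgen : ∀ (k' q q' : ℤ) (_ : k' = k) (h₁ : r + k' = q) (h₂ : r + k = q') (hk' : p₀ + k' = n)
        (hq : r + k = q),
        tm P (DRing.homCx N Y) hk' x (elemC (D.φ r j) k' q h₁ ((cv c r q hq).hom (D.e r j))) =
          tm P (DRing.homCx N Y) h x (elemC (D.φ r j) k q' h₂ ((cv c r q' h₂).hom (D.e r j))) := by
      intro k' q q' e h₁ h₂ hk' hq
      subst e
      obtain rfl : q = q' := by omega
      rfl
    exact hgen _ _ _ (by omega) _ _ _ _
  exact ⟨Function.HasLeftInverse.injective ⟨inv, fun z => congrArg (fun f => f.hom z) h2⟩,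
    fun Φ => ⟨inv Φ, h1 Φ⟩⟩

end Ten

section Hom

/-- `Hom•(L, Y) ⊗ P ⟶ Hom•(Hom•(P, L), Y)` is bijective in degree `n` when only finitely many degrees
of `P` matter. -/
lemma bijective_etaHom' (D : DualBases P) (n : ℤ) (S : Finset ℤ)
    (hS : ∀ p, p ∉ S → ∀ r, (∀ x : P.X p, x = 0) ∨ (∀ l : L.X (p + r), l = 0) ∨
      (∀ y : Y.X (r + n), y = 0)) :
    Function.Bijective ((etaHom P L Y).f n).hom := by
  classical
  let g : ∀ p, Fin (D.size p) →
      ((DRing.homCx (DRing.homCx P L) Y).X n →ₗ[A] (DRing.homCx L Y).X (n - p)) := fun p i =>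
    { toFun := fun Φ => show Cochain L Y (n - p) from Cochain.mk fun q s hqs =>
        (p * (q - p)).negOnePow • (ModuleCat.ofHom (elemC (D.φ p i) (q - p) q (by omega)) ≫
          cv Φ (q - p) s (by omega))
      map_add' := fun Φ Φ' => cv_ext fun q s hqs => by
        change (p * (q - p)).negOnePow • (_ ≫ cv (Φ + Φ') (q - p) s _) = _
        rw [cv_add, Preadditive.comp_add, smul_add]; rfl
      map_smul' := fun a Φ => cv_ext fun q s hqs => by
        change (p * (q - p)).negOnePow • (_ ≫ cv (a • Φ) (q - p) s _) = _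
        rw [cv_smul, Linear.comp_smul, smul_comm]; rfl }
  let inv : (DRing.homCx (DRing.homCx P L) Y).X n →ₗ[A] (DRing.homCx L Y ⊗ P).X n :=
    ∑ p ∈ S, ∑ i, (tmR (DRing.homCx L Y) P (show n - p + p = n by omega) (D.e p i)).comp (g p i)
  have hsign : ∀ (p : ℤ) (r : ℤ) (M : ModuleCat.{u} A) (m : M),
      (p * r).negOnePow • (p * r).negOnePow • m = m := fun p r M m => by
    rw [smul_smul, Int.units_mul_self, one_smul]
  have g_cv : ∀ p i Φ (q s : ℤ) (hqs : q + (n - p) = s) (r : ℤ) (hr : p + r = q) (l : L.X q),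
      (cv (g p i Φ) q s hqs).hom l =
        (p * r).negOnePow • (cv Φ r s (by omega)).hom (elemC (D.φ p i) r q hr l) := by
    intro p i Φ q s hqs r hr l
    obtain rfl : r = q - p := by omega
    rfl
  have h1 : ∀ Φ, ((etaHom P L Y).f n).hom (inv Φ) = Φ := fun Φ => by
    refine cv_ext fun r s hrs => ModuleCat.hom_ext (LinearMap.ext fun c => ?_)
    simp only [inv, LinearMap.coe_sum, Finset.sum_apply, LinearMap.comp_apply, map_sum, cv_sum]
    subst hrs
    by_cases hy : ∀ y : Y.X (r + n), y = 0
    · exact (hy _).trans (hy _).symm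
    conv_rhs => rw [← sum_elemC' D S c (fun p hp x => by
      rcases hS p hp r with h | h | h
      · rw [h x, map_zero]
      · exact h _
      · exact absurd h hy), map_sum]
    refine Finset.sum_congr rfl fun p _ => ?_
    rw [map_sum]
    refine Finset.sum_congr rfl fun i _ => ?_
    refine (etaHom_tm _ (g p i Φ) (D.e p i) r (r + n) rfl c).trans ?_
    rw [g_cv p i Φ (p + r) (r + n) _ r rfl]
    exact hsign p r _ _
  have h2 : (etaHom P L Y).f n ≫ ModuleCat.ofHom inv = 𝟙 _ := by
    refine hom_ext_tm fun k p₀ h g₀ x => ?_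
    change inv (((etaHom P L Y).f n).hom (tm _ P h g₀ x)) = tm _ P h g₀ x
    simp only [inv, LinearMap.coe_sum, Finset.sum_apply, LinearMap.comp_apply]
    have key : ∀ p i (q s : ℤ) (hqs : q + (n - p) = s) (l : L.X q),
        (cv (g p i (((etaHom P L Y).f n).hom (tm _ P h g₀ x))) q s hqs).hom l =
          (p * (q - p)).negOnePow • (p₀ * (q - p)).negOnePow • (cv g₀ (p₀ + (q - p)) s (by omega)).hom
            ((cv (elemC (D.φ p i) (q - p) q (by omega) l) p₀ (p₀ + (q - p)) rfl).hom x) := fun p i q s hqs l => by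
      rw [g_cv p i _ q s hqs (q - p) (by omega), etaHom_tm]
    by_cases hp : p₀ ∈ S
    · rw [Finset.sum_eq_single p₀]
      · obtain rfl : k = n - p₀ := by omega
        have : ∀ i, g p₀ i (((etaHom P L Y).f n).hom (tm _ P h g₀ x)) = D.φ p₀ i x • g₀ := fun i => by
          refine cv_ext fun q s hqs => ModuleCat.hom_ext (LinearMap.ext fun l => ?_)
          rw [key, cv_smul, hsign]
          have e : ∀ (q' : ℤ) (h₁ : p₀ + (q - p₀) = q') (h₂ : q' + (n - p₀) = s),
              (cv g₀ q' s h₂).hom ((cv (elemC (D.φ p₀ i) (q - p₀) q (by omega) l) p₀ q' h₁).hom x) =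
                D.φ p₀ i x • (cv g₀ q s hqs).hom l := by
            intro q' h₁ h₂
            obtain rfl : q' = q := by omega
            rw [cv_elemC, map_smul]
          exact e _ _ _
        simp only [this]
        conv_rhs => rw [← D.sum_eq p₀ x]
        refine Eq.trans ?_ (map_sum (tmL (DRing.homCx L Y) P h g₀) _ _).symm
        refine Finset.sum_congr rfl fun i _ => ?_
        exact (tm_smul_left _ _ _ _).trans (tm_smul_right _ _ _ _).symm
      · intro p _ hne
        refine Finset.sum_eq_zero fun i _ => ?_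
        rw [show g p i (((etaHom P L Y).f n).hom (tm _ P h g₀ x)) = 0 from ?_, map_zero]
        refine cv_ext fun q s hqs => ModuleCat.hom_ext (LinearMap.ext fun l => ?_)
        rw [key, cv_elemC_ne _ _ _ _ _ _ _ _ (Ne.symm hne), ModuleCat.hom_zero, LinearMap.zero_apply,
          map_zero, smul_zero, smul_zero]
        rfl
      · exact fun h => absurd hp h
    · have : tm (DRing.homCx L Y) P h g₀ x = 0 := by
        by_cases hx : ∀ z : P.X p₀, z = 0
        · rw [hx x, tm_zero_right]
        · suffices g₀ = 0 by rw [this, tm_zero_left]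
          refine cv_ext fun q s hqs => ModuleCat.hom_ext (LinearMap.ext fun l => ?_)
          obtain rfl : s = q - p₀ + n := by omega
          rcases hS p₀ hp (q - p₀) with hz | hz | hz
          · exact absurd hz hx
          · have hl : ∀ (q' : ℤ) (_ : p₀ + (q - p₀) = q') (l : L.X q'), l = 0 := fun q' e l => by
              subst e; exact hz l
            rw [hl q (by omega) l, map_zero]
            rfl
          · exact (hz _).trans (hz _).symm
      rw [this, map_zero]
      simp
  exact ⟨Function.HasLeftInverse.injective ⟨inv, fun z => congrArg (fun f => f.hom z) h2⟩,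
    fun Φ => ⟨inv Φ, h1 Φ⟩⟩

end Hom

end Groth.Agent.DTenLib
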