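import Groth.Agent.DTenLib.Act
import Groth.Agent.DTenLib.BCIso
import Groth.Agent.DTenLib.EvalCxGen
import Groth.Agent.DRing.TorBalance

/-!
# The base change map of derived hom under finiteness conditions on the target ring
-/

universe u
open CategoryTheory CategoryTheory.Limits MonoidalCategory
open CochainComplex CochainComplex.HomComplex
attribute [local instance] HasDerivedCategory.standard

namespace Groth.Agent.DTenLib

open Groth.Agent.DRing

variable {R : Type u} [CommRing R]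

lemma etaTen_natural {P P' N Y Y' : DRing.Cx R} (e : P ⟶ P') (g : Y ⟶ Y') :
    etaTen P N Y ≫ DRing.homCxMap N (e ▷ Y ≫ P' ◁ g) =
      (e ▷ DRing.homCx N Y ≫ P' ◁ DRing.homCxMap N g) ≫ etaTen P' N Y' := by
  refine HomologicalComplex.hom_ext _ _ fun n => hom_ext_tm fun p q h x c =>
    cv_ext fun r s hrs => ModuleCat.hom_ext (LinearMap.ext fun w => ?_)
  change (cv (((DRing.homCxMap N (e ▷ Y ≫ P' ◁ g)).f n).hom (((etaTen P N Y).f n).hom
      (tm P _ h x c))) r s hrs).hom w =
    (cv (((etaTen P' N Y').f n).hom (((P' ◁ DRing.homCxMap N g).f n).hom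
      (((e ▷ DRing.homCx N Y).f n).hom (tm P _ h x c)))) r s hrs).hom w
  rw [cv_post, whiskerRight_tm, whiskerLeft_tm, ModuleCat.hom_comp, LinearMap.comp_apply, etaTen_tm,
    etaTen_tm, cv_post]
  simp only [HomologicalComplex.comp_f, ModuleCat.hom_comp, LinearMap.comp_apply]
  rw [whiskerRight_tm, whiskerLeft_tm]

lemma homCxMap_comp (P : DRing.Cx R) {Y Y' Y'' : DRing.Cx R} (f : Y ⟶ Y') (g : Y' ⟶ Y'') :
    DRing.homCxMap P (f ≫ g) = DRing.homCxMap P f ≫ DRing.homCxMap P g :=
  (DRing.homCxFunctor P).map_comp f g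

lemma quasiIso_homCxMap [DTen.HasLTen R] [DTen.HasRHom R] (P : DRing.Cx R) [P.IsKProjective]
    {Y Y' : DRing.Cx R} (f : Y ⟶ Y') [QuasiIso f] : QuasiIso (DRing.homCxMap P f) := by
  have h1 := isIso_theta P Y
  have h2 := isIso_theta P Y'
  have h3 : IsIso (theta P Y ≫ (DTen.RHomR R (DerivedCategory.Q.obj P)).map (DerivedCategory.Q.map f)) :=
    IsIso.comp_isIso' h1 (Functor.map_isIso _ _)
  rw [← theta_post] at h3
  have h4 : IsIso (DerivedCategory.Q.map (DRing.homCxMap P f)) := IsIso.of_isIso_comp_right _ (theta P Y')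
  exact (DerivedCategory.isIso_Q_map_iff_quasiIso (C := ModuleCat.{u} R) _).1 h4

variable {R' : Type u} [CommRing R'] (φ : R →+* R')
  [DTen.HasLTen R] [DTen.HasLTen R'] [DTen.HasRHom R] [DTen.HasRHom R'] [DTen.HasLBase φ]
  [DTen.HasResTen φ] [DTen.ResLegIso φ]

attribute [local instance] isIso_rhomBC'

/-- The base change map is an isomorphism when the Hom complex commutes with tensoring with a finite
resolution of the target ring. -/
theorem isIso_bcRHom_of_etaTen {E₀ E₁ : DRing.Cx R} [E₀.IsKProjective]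
    (ι : E₀ ⟶ (DTen.resCx φ).obj (𝟙_ (DRing.Cx R'))) [QuasiIso ι] (e : E₀ ⟶ E₁) [QuasiIso e]
    (hE₁ : DRing.IsKFlat R E₁) {P Y Y₁ : DRing.Cx R} [P.IsKProjective] [Y.IsKProjective]
    (π : Y ⟶ Y₁) [QuasiIso π] (hη : IsIso (etaTen E₁ P Y₁)) {K M : Dual.D R}
    (a : DRing.toD P ≅ K) (c : DRing.toD Y ≅ M) : IsIso (DTen.bcRHom φ K M) := by
  have hext := isKProjective_extCx φ P
  have hextY := isKProjective_extCx φ Y
  -- `etaTen E₀ P Y` is a quasi-isomorphism
  have q1 : QuasiIso (DRing.homCxMap P π) := quasiIso_homCxMap P π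
  have q2 : QuasiIso (e ▷ DRing.homCx P Y ≫ E₁ ◁ DRing.homCxMap P π) := by
    have : QuasiIso (e ▷ DRing.homCx P Y) := by
      rw [Tensor.whiskerRight_eq]
      have := KFlat.quasiIso_whiskerLeft_of_kflat e (isKFlat_kproj E₀) hE₁ (DRing.homCx P Y)
      infer_instance
    have : QuasiIso (E₁ ◁ DRing.homCxMap P π) := KFlat.quasiIso_whiskerLeft hE₁ _
    infer_instance
  have q3 : QuasiIso (e ▷ Y ≫ E₁ ◁ π) := by
    have : QuasiIso (e ▷ Y) := KFlat.quasiIso_whiskerRight (isKFlat_kproj Y) e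
    have : QuasiIso (E₁ ◁ π) := KFlat.quasiIso_whiskerLeft hE₁ _
    infer_instance
  have q4 : QuasiIso (DRing.homCxMap P (e ▷ Y ≫ E₁ ◁ π)) := quasiIso_homCxMap P _
  have q5 : QuasiIso (etaTen E₀ P Y) := by
    have : QuasiIso (etaTen E₀ P Y ≫ DRing.homCxMap P (e ▷ Y ≫ E₁ ◁ π)) := by
      rw [etaTen_natural]; infer_instance
    exact quasiIso_of_comp_right _ (DRing.homCxMap P (e ▷ Y ≫ E₁ ◁ π))
  -- the composite `ext W ⟶ Hom•(ext P, ext Y)`
  obtain ⟨W, w, hW, hw⟩ := exists_kproj_res (DRing.homCx P Y)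
  have hωiso := isIso_omega φ P ((DTen.extCx φ).obj Y)
  have key : act φ ι (DRing.homCx P Y) ≫ (DTen.resCx φ).map (kappa φ P Y) ≫
      omega φ P ((DTen.extCx φ).obj Y) = etaTen E₀ P Y ≫ DRing.homCxMap P (act φ ι Y) := by
    rw [act, Category.assoc, reassoc_of% (act'_natural φ ι (kappa φ P Y)), act'_omega,
      ← whiskerLeft_comp_assoc, ← whiskerLeft_comp_assoc]
    have h1 : (DTen.unitCx φ).app (DRing.homCx P Y) ≫ (DTen.resCx φ).map (kappa φ P Y) = adjunct φ (kappa φ P Y) :=
      rfl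
    erw [h1]
    rw [adjunct_kappa_omega]
    have h2 := etaTen_natural (N := P) (𝟙 E₀) ((DTen.unitCx φ).app Y)
    rw [id_whiskerRight, id_whiskerRight] at h2
    simp only [Category.id_comp] at h2
    erw [← reassoc_of% h2]
    rw [act, homCxMap_comp]
  have q6 : QuasiIso ((DTen.extCx φ).map w ≫ kappa φ P Y) := by
    rw [← HomologicalComplex.quasiIso_map_iff_of_preservesHomology _ (ModuleCat.restrictScalars φ)]
    change QuasiIso ((DTen.resCx φ).map ((DTen.extCx φ).map w ≫ kappa φ P Y))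
    have hA : QuasiIso (act φ ι W) := quasiIso_act φ ι W (isKFlat_kproj W)
    have hAY : QuasiIso (act φ ι Y) := quasiIso_act φ ι Y (isKFlat_kproj Y)
    have hB : QuasiIso (E₀ ◁ w) := KFlat.quasiIso_whiskerLeft (isKFlat_kproj E₀) w
    have hC : QuasiIso (DRing.homCxMap P (act φ ι Y)) := quasiIso_homCxMap P _
    have hD : QuasiIso ((act φ ι W ≫ (DTen.resCx φ).map ((DTen.extCx φ).map w ≫ kappa φ P Y)) ≫
        omega φ P ((DTen.extCx φ).obj Y)) := by
      rw [Functor.map_comp, ← Category.assoc, act_natural, Category.assoc, Category.assoc, key]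
      infer_instance
    have hE := quasiIso_of_comp_right _ (omega φ P ((DTen.extCx φ).obj Y)) (hφφ' := hD)
    exact quasiIso_of_comp_left (act φ ι W) _ (hφφ' := hE)
  have h0 : IsIso (DTen.bcRHom φ (DerivedCategory.Q.obj P) (DerivedCategory.Q.obj Y)) := by
    have h1 := isIso_baseCmp_kproj φ W
    have h3 := isIso_theta ((DTen.extCx φ).obj P) ((DTen.extCx φ).obj Y)
    have h4 := isIso_baseCmp_kproj φ P
    have h5 := isIso_baseCmp_kproj φ Y
    have h6 := isIso_theta P Y
    have hl : IsIso ((DTen.LBase φ).map (DerivedCategory.Q.map w) ≫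
        (DTen.baseCmp φ).app (DRing.homCx P Y) ≫ DerivedCategory.Q.map (kappa φ P Y) ≫
        theta ((DTen.extCx φ).obj P) ((DTen.extCx φ).obj Y) ≫
          DTen.RHomMap ((DTen.baseCmp φ).app P) (DerivedCategory.Q.obj ((DTen.extCx φ).obj Y))) := by
      have hn := (DTen.baseCmp φ).naturality w
      dsimp only [Functor.comp_map] at hn
      erw [reassoc_of% hn]
      rw [← Functor.map_comp_assoc]
      exact IsIso.comp_isIso' h1 (IsIso.comp_isIso' inferInstance
        (IsIso.comp_isIso' h3 (isIso_RHomMap _ h4 _)))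
    rw [bcRHom_comp] at hl
    have i0 : IsIso ((DTen.LBase φ).map (DerivedCategory.Q.map w)) := Functor.map_isIso _ _
    have i1 : IsIso ((DTen.LBase φ).map (theta P Y)) := Functor.map_isIso _ _
    have i2 : IsIso ((DTen.RHomR R' ((DTen.LBase φ).obj (DerivedCategory.Q.obj P))).map
        ((DTen.baseCmp φ).app Y)) := @Functor.map_isIso _ _ _ _ _ _ _ _ h5
    have i3 := @IsIso.of_isIso_comp_left _ _ _ _ _ _ _ i1 (@IsIso.of_isIso_comp_left _ _ _ _ _ _ _ i0 hl)
    exact @IsIso.of_isIso_comp_right _ _ _ _ _ _ _ i2 i3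
  have hn := bcRHom_natural φ a.inv c.hom
  have j1 : IsIso ((DTen.LBase φ).map (DTen.RHomMap a.inv (DRing.toD Y) ≫ (DTen.RHomR R K).map c.hom)) :=
    @Functor.map_isIso _ _ _ _ _ _ _ _ (IsIso.comp_isIso' (isIso_RHomMap a.inv inferInstance _)
      (Functor.map_isIso _ _))
  have j2 : IsIso (DTen.RHomMap ((DTen.LBase φ).map a.inv) ((DTen.LBase φ).obj (DRing.toD Y)) ≫
      (DTen.RHomR R' ((DTen.LBase φ).obj K)).map ((DTen.LBase φ).map c.hom)) :=
    IsIso.comp_isIso' (isIso_RHomMap _ inferInstance _) (Functor.map_isIso _ _)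
  have j3 := IsIso.comp_isIso' h0 j2
  erw [← hn] at j3
  exact @IsIso.of_isIso_comp_left _ _ _ _ _ _ _ j1 j3

/-- `res R' ≅ R'` for an algebra. -/
noncomputable def resUnitIso (R R' : Type u) [CommRing R] [CommRing R'] [Algebra R R'] :
    DRing.toD ((DTen.resCx (algebraMap R R')).obj (𝟙_ (DRing.Cx R'))) ≅ Dual.inD R R' :=
  DerivedCategory.Q.mapIso
    (((HomologicalComplex.singleMapHomologicalComplex (ModuleCat.restrictScalars (algebraMap R R'))
        (ComplexShape.up ℤ) 0).app (𝟙_ (ModuleCat.{u} R'))) ≪≫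
      (HomologicalComplex.single (ModuleCat.{u} R) (ComplexShape.up ℤ) 0).mapIso
        ((show ((ModuleCat.restrictScalars (algebraMap R R')).obj (𝟙_ (ModuleCat.{u} R')) : ModuleCat.{u} R) ≃ₗ[R] R' from
          { toFun := id
            invFun := id
            left_inv := fun _ => rfl
            right_inv := fun _ => rfl
            map_add' := fun _ _ => rfl
            map_smul' := fun r x => (Algebra.smul_def r (show R' from x)).symm }).toModuleIso)) ≪≫
    TorBalance.inDS0 R'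

end Groth.Agent.DTenLib
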