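import Groth.Agent.DTenLib.BCFinite

/-!
# Base change of derived hom along perfect and finite tor dimension algebras
-/

universe u
open CategoryTheory CategoryTheory.Limits MonoidalCategory
attribute [local instance] HasDerivedCategory.standard

namespace Groth.Agent.DTenLib

open Groth.Agent.DRing

variable (R R' : Type u) [CommRing R] [CommRing R'] [Algebra R R']
  [DTen.HasLTen R] [DTen.HasLTen R'] [DTen.HasRHom R] [DTen.HasRHom R'] [DTen.HasLBase (algebraMap R R')]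
  [DTen.HasResTen (algebraMap R R')] [DTen.ResLegIso (algebraMap R R')]

attribute [local instance] isIso_rhomBC'

lemma exists_unit_resolution {E : DRing.Cx R} [E.IsKProjective] (e : DRing.toD E ≅ Dual.inD R R') :
    ∃ ι : E ⟶ (DTen.resCx (algebraMap R R')).obj (𝟙_ (DRing.Cx R')), QuasiIso ι := by
  obtain ⟨ι, hι⟩ := DBasic.exists_Q_map_eq (e ≪≫ (resUnitIso R R').symm).hom
  refine ⟨ι, (DerivedCategory.isIso_Q_map_iff_quasiIso (C := ModuleCat.{u} R) ι).1 ?_⟩
  rw [hι]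
  infer_instance

theorem isIso_bcRHom_of_isPerfectModule (hR' : DRing.IsPerfectModule R R') (K M : Dual.D R) :
    IsIso (DTen.bcRHom (algebraMap R R') K M) := by
  obtain ⟨E, a, b, hab, hf, ⟨e⟩⟩ := hR'
  have : E.IsKProjective := DBasic.isKProjective_of_projective E b (fun i hi => hab i (Or.inr hi))
    fun i => (hf i).2
  obtain ⟨ι, hι⟩ := exists_unit_resolution R R' e
  obtain ⟨P, hP, -, ⟨eP⟩⟩ := DBasic.exists_kproj_iso K
  obtain ⟨Y, hY, -, ⟨eY⟩⟩ := DBasic.exists_kproj_iso M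
  obtain ⟨D⟩ := nonempty_dualData hab hf
  exact isIso_bcRHom_of_etaTen (algebraMap R R') ι (𝟙 E) (isKFlat_kproj E) (𝟙 Y)
    (isIso_etaTen_left D) eP eY

theorem isIso_bcRHom_of_hasTorDimLE (d : ℕ) (hR' : DRing.HasTorDimLE R d R') (K M : Dual.D R)
    (hK : DRing.IsPseudoCoherent' R K) (n : ℤ) (hM : DerivedCategory.IsGE M n) :
    IsIso (DTen.bcRHom (algebraMap R R') K M) := by
  obtain ⟨E₁, hE, hfl, ⟨e₁⟩⟩ := (TorBalance.hasTorDimLE_iff d R').1 hR'
  obtain ⟨E₀, hE₀, -, ⟨e₀⟩⟩ := DBasic.exists_kproj_iso (Dual.inD R R')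
  obtain ⟨ι, hι⟩ := exists_unit_resolution R R' e₀
  obtain ⟨f, hf⟩ := DBasic.exists_Q_map_eq (e₀ ≪≫ e₁.symm).hom
  have : QuasiIso f := (DerivedCategory.isIso_Q_map_iff_quasiIso (C := ModuleCat.{u} R) f).1
    (by rw [hf]; infer_instance)
  have hE₁ : DRing.IsKFlat R E₁ := KFlat.isKFlat_of_boundedAbove_flat E₁ 0 (fun i hi => hE i (Or.inr hi)) hfl
  obtain ⟨P, b, hb, hPf, ⟨eP⟩⟩ := hK
  have : P.IsKProjective := DBasic.isKProjective_of_projective P b hb fun i =>
    have := (hPf i).2; inferInstance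
  obtain ⟨Y₁, hY₁, ⟨eY₁⟩⟩ := DerivedCategory.exists_iso_Q_obj_of_isGE M n
  obtain ⟨Y, π, hY, -, hπ, -⟩ := KProjRes.exists_resolution Y₁
  obtain ⟨D⟩ := nonempty_dualBases (P := P) fun i => ⟨(hPf i).1, have := (hPf i).2; inferInstance⟩
  refine isIso_bcRHom_of_etaTen (algebraMap R R') ι f hE₁ π (isIso_of_bijective _ fun k => ?_) eP
    (asIso (DerivedCategory.Q.map π) ≪≫ eY₁.symm)
  refine bijective_etaTen_right' D k (Finset.Icc (n - d - k) b) fun r hr => ?_
  by_cases hr' : b < r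
  · exact Or.inl fun w => (ModuleCat.isZero_iff_subsingleton.1 (hb r hr')).elim _ _
  · refine Or.inr fun p q hpq => ?_
    rw [Finset.mem_Icc] at hr
    by_cases hp : p < -(d : ℤ) ∨ 0 < p
    · exact Or.inl fun x => (ModuleCat.isZero_iff_subsingleton.1 (hE p hp)).elim _ _
    · exact Or.inr fun y => (ModuleCat.isZero_iff_subsingleton.1
        (Y₁.isZero_of_isStrictlyGE n q (by omega))).elim _ _

end Groth.Agent.DTenLib
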