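import Groth.Agent.DTenLib.Comp
import Groth.Prelude.Def_DTen4

/-!
# `baseCmp` is an isomorphism on K-flat complexes; the mixed derived tensor product at K-flat pairs
-/

universe u
open CategoryTheory CategoryTheory.Limits MonoidalCategory
attribute [local instance] HasDerivedCategory.standard

namespace Groth.Agent.DTenLib

open Groth.Agent.DRing

variable {R A : Type u} [CommRing R] [CommRing A] (φ : R →+* A)

/-- The counit `(N|_R) ⊗_R A ⟶ N` termwise. -/
noncomputable def counitCx (N : DRing.Cx A) : (DTen.extCx φ).obj ((DTen.resCx φ).obj N) ⟶ N where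
  f i := (ModuleCat.extendRestrictScalarsAdj.{u, u, u} φ).counit.app (N.X i)
  comm' i j _ := ((ModuleCat.extendRestrictScalarsAdj.{u, u, u} φ).counit.naturality (N.d i j)).symm

/-- The adjunct of a map of complexes. -/
noncomputable def adjunct {P : DRing.Cx R} {N : DRing.Cx A} (f : (DTen.extCx φ).obj P ⟶ N) :
    P ⟶ (DTen.resCx φ).obj N :=
  (DTen.unitCx φ).app P ≫ (DTen.resCx φ).map f

/-- The inverse adjunct. -/
noncomputable def coadjunct {P : DRing.Cx R} {N : DRing.Cx A} (g : P ⟶ (DTen.resCx φ).obj N) :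
    (DTen.extCx φ).obj P ⟶ N :=
  (DTen.extCx φ).map g ≫ counitCx φ N

lemma coadjunct_adjunct {P : DRing.Cx R} {N : DRing.Cx A} (f : (DTen.extCx φ).obj P ⟶ N) :
    coadjunct φ (adjunct φ f) = f :=
  HomologicalComplex.hom_ext _ _ fun i => by
    let adj := ModuleCat.extendRestrictScalarsAdj.{u, u, u} φ
    change (ModuleCat.extendScalars.{u, u, u} φ).map
      (adj.unit.app (P.X i) ≫ (ModuleCat.restrictScalars φ).map (f.f i)) ≫ adj.counit.app (N.X i) = f.f i
    have := (adj.homEquiv (P.X i) (N.X i)).symm_apply_apply (f.f i)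
    rwa [adj.homEquiv_unit, adj.homEquiv_counit] at this

lemma adjunct_coadjunct {P : DRing.Cx R} {N : DRing.Cx A} (g : P ⟶ (DTen.resCx φ).obj N) :
    adjunct φ (coadjunct φ g) = g :=
  HomologicalComplex.hom_ext _ _ fun i => by
    let adj := ModuleCat.extendRestrictScalarsAdj.{u, u, u} φ
    change adj.unit.app (P.X i) ≫ (ModuleCat.restrictScalars φ).map
      ((ModuleCat.extendScalars.{u, u, u} φ).map (g.f i) ≫ adj.counit.app (N.X i)) = g.f i
    have := (adj.homEquiv (P.X i) (N.X i)).apply_symm_apply (g.f i)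
    rwa [adj.homEquiv_counit, adj.homEquiv_unit] at this

/-- A homotopy between the adjuncts gives one between the maps. -/
noncomputable def coadjunctHomotopy {P : DRing.Cx R} {N : DRing.Cx A}
    {f f' : (DTen.extCx φ).obj P ⟶ N} (h : Homotopy (adjunct φ f) (adjunct φ f')) : Homotopy f f' :=
  (Homotopy.ofEq (coadjunct_adjunct φ f).symm).trans
    ((((ModuleCat.extendScalars.{u, u, u} φ).mapHomotopy h).compRight (counitCx φ N)).trans
      (Homotopy.ofEq (coadjunct_adjunct φ f')))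

lemma isKProjective_extCx (P : DRing.Cx R) [P.IsKProjective] :
    CochainComplex.IsKProjective ((DTen.extCx φ).obj P) where
  nonempty_homotopy_zero {M} f hM := by
    have hM' : ((DTen.resCx φ).obj M).Acyclic := fun i => (hM i).map (ModuleCat.restrictScalars.{u} φ)
    obtain ⟨h⟩ := CochainComplex.IsKProjective.nonempty_homotopy_zero (adjunct φ f) hM'
    refine ⟨coadjunctHomotopy φ (h.trans (Homotopy.ofEq ?_))⟩
    rw [adjunct, Functor.map_zero, comp_zero]

variable [DTen.HasLBase φ]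

lemma baseCmp_adjunct {P : DRing.Cx R} {N : DRing.Cx A} (f : (DTen.extCx φ).obj P ⟶ N) :
    (DTen.baseAdj φ).unit.app (DerivedCategory.Q.obj P) ≫ (DRing.restrictD φ).map
        ((DTen.baseCmp φ).app P ≫ DerivedCategory.Q.map f) =
      DerivedCategory.Q.map (adjunct φ f) ≫ (DTen.resFactors φ).inv.app N := by
  have h1 := DTen.baseCmp_fac φ P
  have h2 := (DTen.resFactors φ).inv.naturality f
  rw [Functor.map_comp]
  refine (Category.assoc _ _ _).symm.trans ?_
  refine (congrArg (· ≫ _) h1).trans ?_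
  dsimp [DTen.baseγ, adjunct] at h2 ⊢
  rw [Category.assoc, ← h2, ← Category.assoc, Functor.map_comp]

lemma isIso_baseCmp_kproj (P : DRing.Cx R) [P.IsKProjective] : IsIso ((DTen.baseCmp φ).app P) := by
  haveI := isKProjective_extCx φ P
  obtain ⟨Y, hY, -, ⟨e⟩⟩ := DBasic.exists_kproj_iso ((DTen.LBase φ).obj (DerivedCategory.Q.obj P))
  -- surjectivity at `Y`
  have surj : ∀ (N : DRing.Cx A) (χ : (DTen.LBase φ).obj (DerivedCategory.Q.obj P) ⟶ DerivedCategory.Q.obj N),
      ∃ f, (DTen.baseCmp φ).app P ≫ DerivedCategory.Q.map f = χ := by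
    intro N χ
    obtain ⟨g, hg⟩ := DBasic.exists_Q_map_eq
      (((DTen.baseAdj φ).homEquiv _ _ χ) ≫ (DTen.resFactors φ).hom.app N)
    refine ⟨coadjunct φ g, ((DTen.baseAdj φ).homEquiv _ _).injective ?_⟩
    rw [Adjunction.homEquiv_unit]
    refine (baseCmp_adjunct φ (coadjunct φ g)).trans ?_
    rw [adjunct_coadjunct, hg, Category.assoc]
    erw [Iso.hom_inv_id_app, Category.comp_id]
  obtain ⟨f, hf⟩ := surj Y e.inv
  refine ⟨DerivedCategory.Q.map f ≫ e.hom, by rw [← Category.assoc, hf, e.inv_hom_id]; rfl, ?_⟩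
  obtain ⟨g, hg⟩ := DBasic.exists_Q_map_eq ((DerivedCategory.Q.map f ≫ e.hom) ≫ (DTen.baseCmp φ).app P)
  rw [← hg]
  have h1 : (DTen.baseCmp φ).app P ≫ DerivedCategory.Q.map g = (DTen.baseCmp φ).app P ≫
      DerivedCategory.Q.map (𝟙 ((DTen.extCx φ).obj P)) := by
    rw [hg, CategoryTheory.Functor.map_id, ← Category.assoc, ← Category.assoc, hf, e.inv_hom_id]
    erw [Category.id_comp]
    exact (Category.comp_id _).symm
  have h2 : DerivedCategory.Q.map (adjunct φ g) = DerivedCategory.Q.map (adjunct φ (𝟙 _)) := by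
    rw [← cancel_mono ((DTen.resFactors φ).inv.app ((DTen.extCx φ).obj P))]
    exact ((baseCmp_adjunct φ g).symm.trans (congrArg (fun x => _ ≫ (DRing.restrictD φ).map x) h1)).trans
      (baseCmp_adjunct φ (𝟙 _))
  obtain ⟨hh⟩ := (DBasic.Q_map_eq_iff _ _).1 h2
  rw [(DBasic.Q_map_eq_iff g (𝟙 _)).2 ⟨coadjunctHomotopy φ hh⟩]
  exact CategoryTheory.Functor.map_id _ _

theorem isIso_baseCmp (K : DRing.Cx R) (hK : DRing.IsKFlat R K) : IsIso ((DTen.baseCmp φ).app K) := by
  obtain ⟨P, π, hP, hπ⟩ := exists_kproj_res K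
  have h1 := isIso_baseCmp_kproj φ P
  have h2 : QuasiIso ((DTen.extCx φ).map π) :=
    SingleTensor.quasiIso_extendScalars φ π (isKFlat_kproj P) hK
  have hn := (DTen.baseCmp φ).naturality π
  have h3 : IsIso ((DerivedCategory.Q ⋙ DTen.LBase φ).map π ≫ (DTen.baseCmp φ).app K) := by
    rw [hn]
    exact IsIso.comp_isIso' h1 (inferInstanceAs (IsIso (DerivedCategory.Q.map ((DTen.extCx φ).map π))))
  have h4 : IsIso ((DerivedCategory.Q ⋙ DTen.LBase φ).map π) :=
    inferInstanceAs (IsIso ((DTen.LBase φ).map (DerivedCategory.Q.map π)))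
  exact IsIso.of_isIso_comp_left ((DerivedCategory.Q ⋙ DTen.LBase φ).map π) _

section Mix

omit [DTen.HasLBase φ]

lemma isGoodMix (P : DRing.Cx R) (N : DRing.Cx A) [P.IsKProjective] [N.IsKProjective] :
    LeftDerived.IsGood (DTen.QMix R A) (DTen.mix₂ φ) (P, N) where
  fac Y χ := by
    obtain ⟨f, hf⟩ := DBasic.exists_Q_map_eq χ.1
    obtain ⟨g, hg⟩ := DBasic.exists_Q_map_eq χ.2
    exact ⟨Prod.mkHom f g, Prod.ext hf hg⟩
  eq Y g g' h := by
    obtain ⟨e₁⟩ := (DBasic.Q_map_eq_iff g.1 g'.1).1 (congrArg (·.1) h)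
    obtain ⟨e₂⟩ := (DBasic.Q_map_eq_iff g.2 g'.2).1 (congrArg (·.2) h)
    change DerivedCategory.Q.map ((DTen.extCx φ).map g.1 ▷ N ≫ (DTen.extCx φ).obj Y.1 ◁ g.2) =
      DerivedCategory.Q.map ((DTen.extCx φ).map g'.1 ▷ N ≫ (DTen.extCx φ).obj Y.1 ◁ g'.2)
    rw [Functor.map_comp, Functor.map_comp,
      LTensor.Q_map_whiskerRight_eq N ((ModuleCat.extendScalars.{u, u, u} φ).mapHomotopy e₁),
      Q_map_whiskerLeft_eq _ e₂]

lemma hasEnoughMix : LeftDerived.HasEnough (DTen.QMix R A) (DTen.mix₂ φ) := by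
  rintro ⟨K, L⟩
  obtain ⟨P, π, hP, hπ⟩ := exists_kproj_res K
  obtain ⟨P', π', hP', hπ'⟩ := exists_kproj_res L
  refine ⟨(P, P'), Prod.mkHom π π', isGoodMix φ P P', ?_⟩
  rw [isIso_prod_iff]
  exact ⟨inferInstanceAs (IsIso (DerivedCategory.Q.map π)),
    inferInstanceAs (IsIso (DerivedCategory.Q.map π'))⟩

theorem isIso_εMix_kproj [DTen.HasLTenMix φ] (P : DRing.Cx R) (N : DRing.Cx A) [P.IsKProjective]
    [N.IsKProjective] : IsIso ((DTen.εMix φ).app (P, N)) :=
  (hasEnoughMix φ).isIso_app (W := DTen.qisMix R A) (DTen.LTenMix φ) (DTen.εMix φ) (isGoodMix φ P N)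

end Mix

theorem isIso_split [DTen.HasLTen A] [DTen.HasLTenMix φ] (E : Dual.D R) (N : Dual.D A) :
    IsIso ((DTen.split φ).app (E, N)) := by
  obtain ⟨P, hP, -, ⟨e⟩⟩ := DBasic.exists_kproj_iso E
  obtain ⟨M, hM, -, ⟨e'⟩⟩ := DBasic.exists_kproj_iso N
  refine isIso_app_of_iso _ (Iso.prod e.symm e'.symm : (E, N) ≅ (DTen.QMix R A).obj (P, M)) ?_
  have h1 := isIso_baseCmp_kproj φ P
  have h2 := isIso_ε ((DTen.extCx φ).obj P) M (Or.inr (isKFlat_kproj M))
  have h3 := isIso_εMix_kproj φ P M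
  have h4 : IsIso ((DTen.splitβ φ).app (P, M)) := by
    dsimp [DTen.splitβ]
    have h5 : IsIso (Prod.mkHom ((DTen.baseCmp φ).app P) (𝟙 (DerivedCategory.Q.obj M))) := by
      rw [isIso_prod_iff]; exact ⟨h1, inferInstanceAs (IsIso (𝟙 _))⟩
    exact IsIso.comp_isIso' (Functor.map_isIso _ _) h2
  rw [← DTen.split_fac] at h4
  exact @IsIso.of_isIso_comp_right _ _ _ _ _ _ ((DTen.εMix φ).app (P, M)) h3 h4

end Groth.Agent.DTenLib
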