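import Groth.Agent.DTenLib.Hom
import Groth.Prelude.Def_DRing2
import Mathlib.RingTheory.Finiteness.Projective
import Mathlib.Data.Int.Interval

/-!
# Dual bases in bounded complexes of finite projective modules
-/

universe u
open CategoryTheory CategoryTheory.Limits MonoidalCategory TensorProduct
open CochainComplex CochainComplex.HomComplex

namespace Groth.Agent.DTenLib

open Groth.Agent.DRing

variable {A : Type u} [CommRing A]

/-- A system of dual bases of the terms of a bounded complex. -/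
structure DualData (P : DRing.Cx A) where
  supp : Finset ℤ
  size : ℤ → ℕ
  e : ∀ p, Fin (size p) → P.X p
  φ : ∀ p, Fin (size p) → (P.X p →ₗ[A] A)
  sum_eq : ∀ p (x : P.X p), ∑ i, φ p i x • e p i = x
  eq_zero : ∀ p, p ∉ supp → ∀ x : P.X p, x = 0

lemma nonempty_dualData {P : DRing.Cx A} {a b : ℤ} (hb : DRing.VanishesOutside P a b)
    (hf : DRing.TermwiseFiniteProjective P) : Nonempty (DualData P) := by
  have h : ∀ p, ∃ (k : ℕ) (e : Fin k → P.X p) (φ : Fin k → (P.X p →ₗ[A] A)),
      ∀ x, ∑ i, φ i x • e i = x := fun p => by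
    have := (hf p).1
    have := (hf p).2
    obtain ⟨k, f, g, -, -, hfg⟩ := Module.Finite.exists_comp_eq_id_of_projective A (P.X p)
    refine ⟨k, fun i => f (Pi.single i 1), fun i => (LinearMap.proj i).comp g, fun x => ?_⟩
    conv_rhs => rw [← LinearMap.id_apply (R := A) x, ← hfg, LinearMap.comp_apply,
      pi_eq_sum_univ' (g x)]
    rw [map_sum]
    simp only [map_smul]
    rfl
  choose k e φ hsum using h
  exact ⟨⟨Finset.Icc a b, k, e, φ, hsum, fun p hp x => by
    have := ModuleCat.subsingleton_of_isZero (hb p (by rw [Finset.mem_Icc] at hp; omega))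
    exact Subsingleton.elim _ _⟩⟩

variable {P L Y : DRing.Cx A}

/-- Contraction of the first factor against a functional. -/
noncomputable def contr (Y : DRing.Cx A) {p : ℤ} (φ : P.X p →ₗ[A] A) (m j : ℤ) (h : p + j = m) :
    (P ⊗ Y).X m ⟶ Y.X j :=
  HomologicalComplex.mapBifunctorDesc fun p' j' (hj : p' + j' = m) => ModuleCat.ofHom (TensorProduct.lift
    (if hp : p' = p then
      (φ.comp (P.XIsoOfEq hp).hom.hom).smulRight ((Y.XIsoOfEq (show j' = j by omega)).hom.hom)
    else 0))

lemma contr_tm {p : ℤ} (φ : P.X p →ₗ[A] A) (m j : ℤ) (h : p + j = m) (x : P.X p) (y : Y.X j) :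
    (contr Y φ m j h).hom (tm P Y h x y) = φ x • y := by
  change (Tensor.ιT P Y p j m h ≫ contr Y φ m j h).hom (x ⊗ₜ[A] y) = _
  erw [contr, HomologicalComplex.ι_mapBifunctorDesc]
  simp only [dif_pos]
  rfl

lemma contr_tm_ne {p : ℤ} (φ : P.X p →ₗ[A] A) (m j : ℤ) (h : p + j = m) {p' j' : ℤ} (h' : p' + j' = m)
    (hp : p' ≠ p) (x : P.X p') (y : Y.X j') :
    (contr Y φ m j h).hom (tm P Y h' x y) = 0 := by
  change (Tensor.ιT P Y p' j' m h' ≫ contr Y φ m j h).hom (x ⊗ₜ[A] y) = _
  erw [contr, HomologicalComplex.ι_mapBifunctorDesc]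
  rw [dif_neg hp]
  exact TensorProduct.lift.tmul x y

variable (D : DualData P)

include D in
lemma sum_tm_contr {m : ℤ} (w : (P ⊗ Y).X m) :
    ∑ p ∈ D.supp, ∑ i, tm P Y (show p + (m - p) = m by omega) (D.e p i)
      ((contr Y (D.φ p i) m (m - p) (by omega)).hom w) = w := by
  have : (∑ p ∈ D.supp, ∑ i, ModuleCat.ofHom
      ({ toFun := fun y => tm P Y (show p + (m - p) = m by omega) (D.e p i) y
         map_add' := fun y y' => tm_add_right _ _ _ _
         map_smul' := fun a y => tm_smul_right _ a _ _ } ∘ₗ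
        (contr Y (D.φ p i) m (m - p) (by omega)).hom)) = 𝟙 ((P ⊗ Y).X m) := by
    refine hom_ext_tm fun p₀ j h x y => ?_
    simp only [ModuleCat.hom_sum, LinearMap.coe_sum, Finset.sum_apply, ModuleCat.hom_id,
      LinearMap.id_apply, ModuleCat.hom_ofHom, LinearMap.comp_apply, LinearMap.coe_mk, AddHom.coe_mk]
    by_cases hp : p₀ ∈ D.supp
    · rw [Finset.sum_eq_single p₀]
      · obtain rfl : j = m - p₀ := by omega
        simp only [contr_tm, tm_smul_right]
        simp only [← tm_smul_left]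
        conv_rhs => rw [← D.sum_eq p₀ x]
        let f : P.X p₀ →+ (P ⊗ Y).X m :=
          AddMonoidHom.mk' (fun x => tm P Y h x y) (fun x x' => tm_add_left h x x' y)
        exact (map_sum f _ _).symm
      · intro p _ hne
        exact Finset.sum_eq_zero fun i _ => by
          rw [contr_tm_ne _ _ _ _ h (Ne.symm hne), tm_zero_right]
      · exact fun h => absurd hp h
    · rw [D.eq_zero p₀ hp x, tm_zero_left]
      simp only [map_zero, tm_zero_right, Finset.sum_const_zero]
  have h := congrArg (fun f => f.hom w) this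
  simpa only [ModuleCat.hom_sum, LinearMap.coe_sum, Finset.sum_apply, ModuleCat.hom_id,
    LinearMap.id_apply, ModuleCat.hom_ofHom, LinearMap.comp_apply, LinearMap.coe_mk, AddHom.coe_mk] using h

/-- The cochain supported in degree `p` given by a functional and an element. -/
noncomputable def elemC {p : ℤ} (φ : P.X p →ₗ[A] A) (r q : ℤ) (h : p + r = q) :
    L.X q →ₗ[A] (DRing.homCx P L).X r where
  toFun y := show Cochain P L r from Cochain.mk fun p' q' h' =>
    if hp : p' = p then
      ModuleCat.ofHom ((φ.comp (P.XIsoOfEq hp).hom.hom).smulRight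
        ((L.XIsoOfEq (show q = q' by omega)).hom.hom y))
    else 0
  map_add' y y' := cv_ext fun p' q' h' => ModuleCat.hom_ext (LinearMap.ext fun x => by
    rw [cv_add]
    simp only [cv, Cochain.mk_v]
    split_ifs <;> simp [smul_add])
  map_smul' a y := cv_ext fun p' q' h' => ModuleCat.hom_ext (LinearMap.ext fun x => by
    rw [cv_smul]
    simp only [cv, Cochain.mk_v]
    split_ifs <;> simp [smul_comm a])

lemma cv_elemC {p : ℤ} (φ : P.X p →ₗ[A] A) (r q : ℤ) (h : p + r = q) (y : L.X q) (x : P.X p) :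
    (cv (elemC φ r q h y) p q h).hom x = φ x • y := by
  change ((Cochain.mk _ : Cochain P L r).v p q h).hom x = _
  rw [Cochain.mk_v, dif_pos rfl]
  rfl

lemma cv_elemC_ne {p : ℤ} (φ : P.X p →ₗ[A] A) (r q : ℤ) (h : p + r = q) (y : L.X q) (p' q' : ℤ)
    (h' : p' + r = q') (hp : p' ≠ p) : cv (elemC φ r q h y) p' q' h' = 0 := by
  exact dif_neg hp

lemma cv_sum {ι : Type*} (s : Finset ι) {n : ℤ} (z : ι → (DRing.homCx P L).X n) (p q : ℤ)
    (h : p + n = q) (x : P.X p) :
    (cv (∑ i ∈ s, z i) p q h).hom x = ∑ i ∈ s, (cv (z i) p q h).hom x := by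
  let f : (DRing.homCx P L).X n →+ L.X q :=
    AddMonoidHom.mk' (fun z => (cv z p q h).hom x) (fun z z' => by rw [cv_add]; rfl)
  exact map_sum f z s

lemma sum_elemC {r : ℤ} (c : (DRing.homCx P L).X r) :
    ∑ p ∈ D.supp, ∑ i, elemC (D.φ p i) r (p + r) rfl ((cv c p (p + r) rfl).hom (D.e p i)) = c := by
  refine cv_ext fun p₀ q₀ h₀ => ModuleCat.hom_ext (LinearMap.ext fun x => ?_)
  subst h₀
  rw [cv_sum]
  simp only [cv_sum]
  by_cases hp : p₀ ∈ D.supp
  · rw [Finset.sum_eq_single p₀]
    · simp only [cv_elemC]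
      conv_rhs => rw [← D.sum_eq p₀ x, map_sum]
      simp only [map_smul]
    · intro p _ hne
      exact Finset.sum_eq_zero fun i _ => by rw [cv_elemC_ne _ _ _ _ _ _ _ _ (Ne.symm hne)]; rfl
    · exact fun h => absurd hp h
  · rw [D.eq_zero p₀ hp x]
    simp

end Groth.Agent.DTenLib
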