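import Groth.Agent.DRing.Braid
import Groth.Prelude.Def_DTen

/-!
# Elementwise calculus in tensor products of complexes of modules
-/

universe u
open CategoryTheory CategoryTheory.Limits MonoidalCategory TensorProduct

namespace Groth.Agent.DTenLib

open Groth.Agent.DRing

variable {A : Type u} [CommRing A] {K K' L L' M : DRing.Cx A}

/-- The pure tensor `x ⊗ y` in degree `n`. -/
noncomputable def tm (K L : DRing.Cx A) {p q n : ℤ} (h : p + q = n) (x : K.X p) (y : L.X q) :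
    (K ⊗ L).X n :=
  (Tensor.ιT K L p q n h).hom (x ⊗ₜ[A] y)

lemma hom_ext_tm {n : ℤ} {T : ModuleCat.{u} A} {f g : (K ⊗ L).X n ⟶ T}
    (h : ∀ (p q : ℤ) (hpq : p + q = n) x y, f.hom (tm K L hpq x y) = g.hom (tm K L hpq x y)) :
    f = g :=
  Tensor.hom_ext fun p q hpq => ModuleCat.MonoidalCategory.tensor_ext fun x y => h p q hpq x y

lemma tm_add_left {p q n : ℤ} (h : p + q = n) (x x' : K.X p) (y : L.X q) :
    tm K L h (x + x') y = tm K L h x y + tm K L h x' y := by
  rw [tm, add_tmul, map_add]; rfl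

lemma tm_add_right {p q n : ℤ} (h : p + q = n) (x : K.X p) (y y' : L.X q) :
    tm K L h x (y + y') = tm K L h x y + tm K L h x y' := by
  rw [tm, tmul_add, map_add]; rfl

lemma tm_smul_left {p q n : ℤ} (h : p + q = n) (a : A) (x : K.X p) (y : L.X q) :
    tm K L h (a • x) y = a • tm K L h x y := by
  rw [tm, ← smul_tmul', map_smul]; rfl

lemma tm_smul_right {p q n : ℤ} (h : p + q = n) (a : A) (x : K.X p) (y : L.X q) :
    tm K L h x (a • y) = a • tm K L h x y := by
  rw [tm, tmul_smul, map_smul]; rfl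

lemma tm_zero_left {p q n : ℤ} (h : p + q = n) (y : L.X q) : tm K L h (0 : K.X p) y = 0 := by
  rw [tm, zero_tmul, map_zero]

lemma tm_zero_right {p q n : ℤ} (h : p + q = n) (x : K.X p) : tm K L h x (0 : L.X q) = 0 := by
  rw [tm, tmul_zero, map_zero]

lemma whiskerLeft_tm (g : L ⟶ L') {p q n : ℤ} (h : p + q = n) (x : K.X p) (y : L.X q) :
    ((K ◁ g).f n).hom (tm K L h x y) = tm K L' h x ((g.f q).hom y) :=
  congrArg (fun φ => φ.hom (x ⊗ₜ[A] y)) (Tensor.ιT_whiskerLeft (L := K) g p q n h)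

lemma whiskerRight_tm (f : K ⟶ K') {p q n : ℤ} (h : p + q = n) (x : K.X p) (y : L.X q) :
    ((f ▷ L).f n).hom (tm K L h x y) = tm K' L h ((f.f p).hom x) y :=
  congrArg (fun φ => φ.hom (x ⊗ₜ[A] y)) (Tensor.ιT_whiskerRight f L p q n h)

lemma d_tm {p q n n' : ℤ} (h : p + q = n) (hn : n + 1 = n') (x : K.X p) (y : L.X q) :
    ((K ⊗ L).d n n').hom (tm K L h x y) =
      tm K L (show p + 1 + q = n' by omega) ((K.d p (p + 1)).hom x) y +
      p.negOnePow • tm K L (show p + (q + 1) = n' by omega) x ((L.d q (q + 1)).hom y) :=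
  congrArg (fun φ => φ.hom (x ⊗ₜ[A] y)) (Tensor.ιT_d (L := K) (P := L) p q n n' h hn)

lemma braidCx_tm {p q n : ℤ} (h : p + q = n) (x : K.X p) (y : L.X q) :
    ((DTen.braidCx K L).hom.f n).hom (tm K L h x y) =
      (p * q).negOnePow • tm L K (show q + p = n by omega) y x :=
  congrArg (fun φ => φ.hom (x ⊗ₜ[A] y)) (DTen.ι_braidCx_hom K L p q n h)

lemma assoc_tm {p q r m s n : ℤ} (hpq : p + q = m) (hn : m + r = n) (hqr : q + r = s)
    (x : K.X p) (y : L.X q) (z : M.X r) :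
    ((α_ K L M).hom.f n).hom (tm (K ⊗ L) M hn (tm K L hpq x y) z) =
      tm K (L ⊗ M) (show p + s = n by omega) x (tm L M hqr y z) := by
  subst hpq hqr
  exact congrArg (fun φ => φ.hom ((x ⊗ₜ[A] y) ⊗ₜ[A] z))
    (GradedObject.Monoidal.ιTensorObj₃'_associator_hom (X₁ := K.X) (X₂ := L.X) (X₃ := M.X)
      p q r n hn)

lemma tm_congr {p q p' q' n : ℤ} {h : p + q = n} {h' : p' + q' = n} (hp : p = p') (hq : q = q')
    (x : K.X p) (y : L.X q) :
    tm K L h x y = tm K L h' (hp ▸ x) (hq ▸ y) := by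
  subst hp hq; rfl

end Groth.Agent.DTenLib
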