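import Groth.Agent.DTenLib.EvalCx
import Groth.Agent.DTenLib.Nat

/-!
# The evaluation maps are isomorphisms for perfect objects
-/

universe u
open CategoryTheory CategoryTheory.Limits MonoidalCategory
attribute [local instance] HasDerivedCategory.standard

namespace Groth.Agent.DTenLib

open Groth.Agent.DRing

variable {A : Type u} [CommRing A] [DTen.HasLTen A] [DTen.HasLTen₃ A] [DTen.IsSymMonoidal A]

/-- The associator is compatible with the associator of complexes. -/
lemma associator_β (K L M : DRing.Cx A) :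
    (DTen.associator (DerivedCategory.Q.obj K) (DerivedCategory.Q.obj L) (DerivedCategory.Q.obj M)).hom ≫
        LT (𝟙 (DerivedCategory.Q.obj K)) ((DTen.ε A).app (L, M)) ≫ (DTen.ε A).app (K, L ⊗ M) =
      LT ((DTen.ε A).app (K, L)) (𝟙 (DerivedCategory.Q.obj M)) ≫ (DTen.ε A).app (K ⊗ L, M) ≫
        DerivedCategory.Q.map (α_ K L M).hom := by
  have h1 := DTen.assocR_fac A (K, (L, M))
  have h2 := DTen.assocL_fac A (K, (L, M))
  change _ = LT _ _ ≫ _
  refine Eq.trans ?_ h2
  refine Eq.trans (congrArg (_ ≫ ·) h1.symm) ?_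
  exact (Category.assoc _ _ _).symm.trans (congrArg (· ≫ _) (DTen.associator_hom_assocR _ _ _))

variable [DTen.HasRHom A]

lemma evalTen_comp (P N Y : DRing.Cx A) :
    LT (𝟙 (DerivedCategory.Q.obj P)) (theta N Y) ≫
        DTen.evalTen (DerivedCategory.Q.obj P) (DerivedCategory.Q.obj Y) (DerivedCategory.Q.obj N) ≫
          (DTen.RHomR A (DerivedCategory.Q.obj N)).map ((DTen.ε A).app (P, Y)) =
      (DTen.ε A).app (P, DRing.homCx N Y) ≫ DerivedCategory.Q.map (etaTen P N Y) ≫ theta N (P ⊗ Y) := by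
  apply (DTen.rhomHomEquiv _ _ _).symm.injective
  rw [symm_homEquiv_comp, symm_homEquiv_map, DTen.evalTen, Equiv.symm_apply_apply, DTen.evalTenAux]
  erw [symm_homEquiv_comp]
  erw [symm_Q_map_theta]
  rw [etaTen, uncurry_curry, Functor.map_comp]
  change LT (LT (𝟙 _) (theta N Y)) (𝟙 _) ≫ ((DTen.associator _ _ _).hom ≫ LT (𝟙 _) (DTen.ev _ _)) ≫
    (DTen.ε A).app (P, Y) = _
  simp only [Category.assoc]
  rw [assoc_natural'_assoc, LT_comp_assoc, Category.comp_id]
  erw [theta_fac N Y]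
  have h1 : LT (𝟙 (DerivedCategory.Q.obj P)) ((DTen.ε A).app (DRing.homCx N Y, N) ≫
      DerivedCategory.Q.map (ev N Y)) ≫ (DTen.ε A).app (P, Y) =
      LT (𝟙 _) ((DTen.ε A).app (DRing.homCx N Y, N)) ≫ (DTen.ε A).app (P, DRing.homCx N Y ⊗ N) ≫
        DerivedCategory.Q.map (P ◁ ev N Y) := by
    rw [← ε_natural_right P (ev N Y)]
    erw [← Category.assoc, LT_comp]
    rw [Category.comp_id]
  erw [h1]
  refine (congrArg (_ ≫ ·) (Category.assoc _ _ _).symm).trans ?_
  refine (Category.assoc _ _ _).symm.trans ?_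
  refine (congrArg (· ≫ _) (associator_β P (DRing.homCx N Y) N)).trans ?_
  simp only [Category.assoc]
  rfl

lemma evalHom_comp (P L Y : DRing.Cx A) :
    LT (theta L Y) (𝟙 (DerivedCategory.Q.obj P)) ≫
        DTen.evalHom (DerivedCategory.Q.obj P) (DerivedCategory.Q.obj L) (DerivedCategory.Q.obj Y) ≫
          DTen.RHomMap (theta P L) (DerivedCategory.Q.obj Y) =
      (DTen.ε A).app (DRing.homCx L Y, P) ≫ DerivedCategory.Q.map (etaHom P L Y) ≫
        theta (DRing.homCx P L) Y := by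
  apply (DTen.rhomHomEquiv _ _ _).symm.injective
  rw [symm_homEquiv_comp, symm_homEquiv_RHomMap, DTen.evalHom, Equiv.symm_apply_apply, DTen.evalHomAux]
  erw [symm_homEquiv_comp]
  erw [symm_Q_map_theta]
  rw [etaHom, uncurry_curry, Functor.map_comp, Functor.map_comp]
  change LT (LT (theta L Y) (𝟙 _)) (𝟙 _) ≫ LT (𝟙 _) (theta P L) ≫ (DTen.associator _ _ _).hom ≫
    LT (𝟙 _) ((DTen.symm A).app (_, _) ≫ DTen.ev _ _) ≫ DTen.ev _ _ = _
  rw [LT_comp_assoc, Category.comp_id, Category.id_comp, assoc_natural'_assoc, LT_comp_assoc,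
    Category.comp_id, symm_natural_assoc (theta P L) (𝟙 (DerivedCategory.Q.obj P))]
  erw [theta_fac P L]
  erw [reassoc_of% (DTen.symm_fac A (DRing.homCx P L) P)]
  have h1 : ∀ {W : Dual.D A} (v : W ⟶ DerivedCategory.Q.obj L),
      LT (theta L Y) v ≫ DTen.ev (DerivedCategory.Q.obj L) (DerivedCategory.Q.obj Y) =
        LT (𝟙 (DerivedCategory.Q.obj (DRing.homCx L Y))) v ≫ (DTen.ε A).app (DRing.homCx L Y, L) ≫
          DerivedCategory.Q.map (ev L Y) := by
    intro W v
    erw [← theta_fac L Y]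
    rw [← Category.assoc]
    erw [LT_comp]
    rw [Category.id_comp, Category.comp_id]
  erw [h1]
  set κ := (DTen.braidCx P (DRing.homCx P L)).hom ≫ ev P L
  have h2 : LT (𝟙 (DerivedCategory.Q.obj (DRing.homCx L Y))) ((DTen.ε A).app (P, DRing.homCx P L) ≫
        DerivedCategory.Q.map (DTen.braidCx P (DRing.homCx P L)).hom ≫ DerivedCategory.Q.map (ev P L)) ≫
      (DTen.ε A).app (DRing.homCx L Y, L) =
      LT (𝟙 _) ((DTen.ε A).app (P, DRing.homCx P L)) ≫
        (DTen.ε A).app (DRing.homCx L Y, P ⊗ DRing.homCx P L) ≫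
        DerivedCategory.Q.map (DRing.homCx L Y ◁ κ) := by
    rw [← ε_natural_right (DRing.homCx L Y) κ]
    erw [← Category.assoc (LT _ _) (LT _ _), LT_comp]
    rw [Category.comp_id, show DerivedCategory.Q.map κ = DerivedCategory.Q.map _ ≫ DerivedCategory.Q.map _ from
      Functor.map_comp _ _ _]
  refine (congrArg (_ ≫ ·) (Category.assoc _ _ _).symm).trans ?_
  erw [h2]
  refine (congrArg (_ ≫ ·) (congrArg (· ≫ _) (Category.assoc _ _ _).symm)).trans ?_
  simp only [← Category.assoc]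
  refine (congrArg (· ≫ _) (congrArg (· ≫ _) ((Category.assoc _ _ _).trans
    (associator_β (DRing.homCx L Y) P (DRing.homCx P L))))).trans ?_
  simp only [Category.assoc]
  rfl

/-- `evalTen` is an isomorphism when one of the outer arguments is perfect. -/
theorem isIso_evalTen (K L M : Dual.D A) (h : DRing.IsPerfect A K ∨ DRing.IsPerfect A M) :
    IsIso (DTen.evalTen K L M) := by
  -- choose representatives
  obtain ⟨P, N, hP, hN, ⟨a⟩, ⟨c⟩, hD⟩ : ∃ P N : DRing.Cx A, P.IsKProjective ∧ N.IsKProjective ∧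
      Nonempty (DRing.toD P ≅ K) ∧ Nonempty (DRing.toD N ≅ M) ∧
      (Nonempty (DualData P) ∨ Nonempty (DualData N)) := by
    rcases h with h | h
    · obtain ⟨P, x, y, hb, hf, he⟩ := h
      obtain ⟨N, hN, -, hn⟩ := DBasic.exists_kproj_iso M
      exact ⟨P, N, DBasic.isKProjective_of_projective P y (fun i hi => hb i (Or.inr hi))
        (fun i => (hf i).2), hN, he, hn, Or.inl (nonempty_dualData hb hf)⟩
    · obtain ⟨P, hP, -, hp⟩ := DBasic.exists_kproj_iso K
      obtain ⟨N, x, y, hb, hf, he⟩ := h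
      exact ⟨P, N, hP, DBasic.isKProjective_of_projective N y (fun i hi => hb i (Or.inr hi))
        (fun i => (hf i).2), hp, he, Or.inr (nonempty_dualData hb hf)⟩
  let Y := DerivedCategory.Q.objPreimage L
  let b : DRing.toD Y ≅ L := DerivedCategory.Q.objObjPreimageIso L
  have hη : IsIso (etaTen P N Y) := by
    rcases hD with ⟨⟨D⟩⟩ | ⟨⟨D⟩⟩
    exacts [isIso_etaTen_left D, isIso_etaTen_right D]
  have hθ := isIso_theta N Y
  have hθ' := isIso_theta N (P ⊗ Y)
  have he₁ := isIso_ε P (DRing.homCx N Y) (Or.inl (isKFlat_kproj P))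
  have he₂ := isIso_ε P Y (Or.inl (isKFlat_kproj P))
  have h0 : IsIso (DTen.evalTen (DerivedCategory.Q.obj P) (DerivedCategory.Q.obj Y)
      (DerivedCategory.Q.obj N)) := by
    have hr : IsIso (LT (𝟙 (DerivedCategory.Q.obj P)) (theta N Y) ≫
        DTen.evalTen (DerivedCategory.Q.obj P) (DerivedCategory.Q.obj Y) (DerivedCategory.Q.obj N) ≫
          (DTen.RHomR A (DerivedCategory.Q.obj N)).map ((DTen.ε A).app (P, Y))) := by
      rw [evalTen_comp]
      exact IsIso.comp_isIso' he₁ (IsIso.comp_isIso' (Functor.map_isIso _ _) hθ')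
    have := isIso_LT (𝟙 (DerivedCategory.Q.obj P)) (theta N Y) inferInstance hθ
    have h2 : IsIso (DTen.evalTen (DerivedCategory.Q.obj P) (DerivedCategory.Q.obj Y) (DerivedCategory.Q.obj N) ≫
        (DTen.RHomR A (DerivedCategory.Q.obj N)).map ((DTen.ε A).app (P, Y))) :=
      IsIso.of_isIso_comp_left (LT (𝟙 (DerivedCategory.Q.obj P)) (theta N Y)) _
    have : IsIso ((DTen.RHomR A (DerivedCategory.Q.obj N)).map ((DTen.ε A).app (P, Y))) :=
      Functor.map_isIso _ _
    exact IsIso.of_isIso_comp_right _ ((DTen.RHomR A (DerivedCategory.Q.obj N)).map ((DTen.ε A).app (P, Y)))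
  have hn := evalTen_natural a.hom b.hom c.inv
  have i1 : IsIso (DTen.RHomMap c.inv (DerivedCategory.Q.obj Y) ≫ (DTen.RHomR A M).map b.hom) :=
    IsIso.comp_isIso' (isIso_RHomMap c.inv inferInstance _) (Functor.map_isIso _ _)
  have i2 := isIso_LT a.hom _ inferInstance i1
  have i3 : IsIso (DTen.RHomMap c.inv ((DTen.LTen₂ A).obj (DerivedCategory.Q.obj P, DerivedCategory.Q.obj Y)) ≫
      (DTen.RHomR A M).map (LT a.hom b.hom)) :=
    IsIso.comp_isIso' (isIso_RHomMap c.inv inferInstance _)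
      (have := isIso_LT a.hom b.hom inferInstance inferInstance; Functor.map_isIso _ _)
  have : IsIso (LT a.hom (DTen.RHomMap c.inv (DerivedCategory.Q.obj Y) ≫ (DTen.RHomR A M).map b.hom) ≫
      DTen.evalTen K L M) := by
    rw [hn]
    exact IsIso.comp_isIso' h0 i3
  exact IsIso.of_isIso_comp_left (LT a.hom (DTen.RHomMap c.inv (DerivedCategory.Q.obj Y) ≫
    (DTen.RHomR A M).map b.hom)) _

/-- `evalHom` is an isomorphism for `K` perfect. -/
theorem isIso_evalHom (K L M : Dual.D A) (h : DRing.IsPerfect A K) : IsIso (DTen.evalHom K L M) := by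
  obtain ⟨P, x, y, hb, hf, ⟨a⟩⟩ := h
  have hP : P.IsKProjective :=
    DBasic.isKProjective_of_projective P y (fun i hi => hb i (Or.inr hi)) (fun i => (hf i).2)
  obtain ⟨D⟩ := nonempty_dualData hb hf
  obtain ⟨L₀, hL, -, ⟨b⟩⟩ := DBasic.exists_kproj_iso L
  let Y := DerivedCategory.Q.objPreimage M
  let c : DRing.toD Y ≅ M := DerivedCategory.Q.objObjPreimageIso M
  have hC : CochainComplex.IsKProjective (DRing.homCx P L₀) := by
    refine ⟨fun {Z} f hZ => ?_⟩
    have := isIso_etaHom (L := L₀) (Y := Z) D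
    have hz : IsZero ((DRing.homCx (DRing.homCx P L₀) Z).homology 0) :=
      (((isKFlat_kproj P : DRing.IsKFlat A P) (DRing.homCx L₀ Z) (fun i =>
        (HomologicalComplex.exactAt_iff_isZero_homology _ _).1 (acyclic_homCx (P := L₀) hZ i))) 0).of_iso
        ((HomologicalComplex.homologyFunctor _ _ 0).mapIso (asIso (etaHom P L₀ Z))).symm
    have hx := (HomologicalComplex.exactAt_iff_isZero_homology _ _).2 hz
    rw [HomologicalComplex.exactAt_iff' _ (-1) 0 1 (by simp) (by simp),
      ShortComplex.moduleCat_exact_iff] at hx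
    obtain ⟨w, hw⟩ := hx (show CochainComplex.HomComplex.Cochain (DRing.homCx P L₀) Z 0 from
      CochainComplex.HomComplex.Cochain.ofHom f) (CochainComplex.HomComplex.δ_ofHom f)
    refine ⟨(CochainComplex.HomComplex.Cochain.equivHomotopy f 0).symm
      ⟨show CochainComplex.HomComplex.Cochain (DRing.homCx P L₀) Z (-1) from w, ?_⟩⟩
    rw [CochainComplex.HomComplex.Cochain.ofHom_zero, add_zero]
    exact hw.symm
  have hη : IsIso (etaHom P L₀ Y) := isIso_etaHom D
  have hθ := isIso_theta L₀ Y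
  have hθP := isIso_theta P L₀
  have hθ' := isIso_theta (DRing.homCx P L₀) Y
  have he := isIso_ε (DRing.homCx L₀ Y) P (Or.inr (isKFlat_kproj P))
  have h0 : IsIso (DTen.evalHom (DerivedCategory.Q.obj P) (DerivedCategory.Q.obj L₀)
      (DerivedCategory.Q.obj Y)) := by
    have hr : IsIso (LT (theta L₀ Y) (𝟙 (DerivedCategory.Q.obj P)) ≫
        DTen.evalHom (DerivedCategory.Q.obj P) (DerivedCategory.Q.obj L₀) (DerivedCategory.Q.obj Y) ≫
          DTen.RHomMap (theta P L₀) (DerivedCategory.Q.obj Y)) := by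
      rw [evalHom_comp]
      exact IsIso.comp_isIso' he (IsIso.comp_isIso' (Functor.map_isIso _ _) hθ')
    have := isIso_LT (theta L₀ Y) (𝟙 (DerivedCategory.Q.obj P)) hθ inferInstance
    have h2 : IsIso (DTen.evalHom (DerivedCategory.Q.obj P) (DerivedCategory.Q.obj L₀) (DerivedCategory.Q.obj Y) ≫
        DTen.RHomMap (theta P L₀) (DerivedCategory.Q.obj Y)) :=
      IsIso.of_isIso_comp_left (LT (theta L₀ Y) (𝟙 (DerivedCategory.Q.obj P))) _
    have := isIso_RHomMap (theta P L₀) hθP (DerivedCategory.Q.obj Y)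
    exact IsIso.of_isIso_comp_right _ (DTen.RHomMap (theta P L₀) (DerivedCategory.Q.obj Y))
  have hn := evalHom_natural a.hom b.inv c.hom
  have i1 : IsIso (LT (DTen.RHomMap b.inv (DerivedCategory.Q.obj Y) ≫ (DTen.RHomR A L).map c.hom) a.hom) :=
    isIso_LT _ _ (IsIso.comp_isIso' (isIso_RHomMap b.inv inferInstance _) (Functor.map_isIso _ _)) inferInstance
  have i2 : IsIso (DTen.RHomMap a.hom L ≫ (DTen.RHomR A (DRing.toD P)).map b.inv) :=
    IsIso.comp_isIso' (isIso_RHomMap a.hom inferInstance _) (Functor.map_isIso _ _)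
  have : IsIso (LT (DTen.RHomMap b.inv (DerivedCategory.Q.obj Y) ≫ (DTen.RHomR A L).map c.hom) a.hom ≫
      DTen.evalHom K L M) := by
    rw [hn]
    exact IsIso.comp_isIso' h0 (IsIso.comp_isIso' (isIso_RHomMap _ i2 _) (Functor.map_isIso _ _))
  exact IsIso.of_isIso_comp_left (LT (DTen.RHomMap b.inv (DerivedCategory.Q.obj Y) ≫
    (DTen.RHomR A L).map c.hom) a.hom) _

end Groth.Agent.DTenLib
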