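import Groth.Agent.DTenLib.EvalCxGen
import Groth.Agent.DTenLib.Eval
import Groth.Agent.DRing.InjAmp

/-!
# `evalHom` for pseudo-coherent, bounded below and finite injective dimension arguments
-/

universe u
open CategoryTheory CategoryTheory.Limits MonoidalCategory
attribute [local instance] HasDerivedCategory.standard

namespace Groth.Agent.DTenLib

open Groth.Agent.DRing

variable {A : Type u} [CommRing A] [DTen.HasLTen A] [DTen.HasRHom A]

/-- `RHom(QP, QY)` is the Hom complex for `Y` K-injective. -/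
theorem isIso_theta_inj (P Y : DRing.Cx A) [Y.IsKInjective] : IsIso (theta P Y) := by
  obtain ⟨Z, hZ, -, ⟨e⟩⟩ := DBasic.exists_kproj_iso
    ((DTen.RHomR A (DerivedCategory.Q.obj P)).obj (DerivedCategory.Q.obj Y))
  have := isIso_ε Z P (Or.inl (isKFlat_kproj Z))
  obtain ⟨h, hh⟩ := InjAmp.exists_Q_map_eq_inj (K := (Z ⊗ P : DRing.Cx A)) (L := Y)
    (inv ((DTen.ε A).app (Z, P)) ≫ (DTen.rhomHomEquiv _ _ _).symm e.hom)
  have hf : DerivedCategory.Q.map (curry h) ≫ theta P Y = e.hom := by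
    apply (DTen.rhomHomEquiv _ _ _).symm.injective
    refine (symm_Q_map_theta (curry h)).trans ?_
    rw [uncurry_curry, hh, IsIso.hom_inv_id_assoc]
  refine ⟨e.inv ≫ DerivedCategory.Q.map (curry h), ?_, by rw [Category.assoc, hf, e.inv_hom_id]⟩
  obtain ⟨W, π, hW, hπ⟩ := exists_kproj_res (DRing.homCx P Y)
  have := isIso_ε W P (Or.inl (isKFlat_kproj W))
  rw [← cancel_epi (DerivedCategory.Q.map π)]
  obtain ⟨g, hg⟩ := DBasic.exists_Q_map_eq
    (DerivedCategory.Q.map π ≫ theta P Y ≫ e.inv ≫ DerivedCategory.Q.map (curry h))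
  have h2 : DerivedCategory.Q.map g ≫ theta P Y = DerivedCategory.Q.map π ≫ theta P Y := by
    rw [hg]
    simp only [Category.assoc]
    erw [hf]
    rw [e.inv_hom_id, Category.comp_id]
  have h3 : DerivedCategory.Q.map (uncurry g) = DerivedCategory.Q.map (uncurry π) := by
    have h4 := congrArg (DTen.rhomHomEquiv _ _ _).symm h2
    rw [symm_Q_map_theta, symm_Q_map_theta] at h4
    exact (cancel_epi _).1 h4
  obtain ⟨s⟩ := (InjAmp.Q_map_eq_iff_inj _ _).1 h3
  have h5 : Homotopy g π := (Homotopy.ofEq (curry_uncurry g).symm).trans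
    ((curryHomotopy s).trans (Homotopy.ofEq (curry_uncurry π)))
  rw [← hg, (DBasic.Q_map_eq_iff g π).2 ⟨h5⟩]
  exact (Category.comp_id _).symm

variable [DTen.HasLTen₃ A] [DTen.IsSymMonoidal A]

theorem isIso_evalHom_of_pseudoCoherent (K L M : Dual.D A) (hK : DRing.IsPseudoCoherent' A K) (n : ℤ)
    (hL : DerivedCategory.IsGE L n) (hM : DRing.HasFiniteInjDim A M) : IsIso (DTen.evalHom K L M) := by
  obtain ⟨P, y, hb, hf, ⟨a⟩⟩ := hK
  obtain ⟨L₀, hL₀, ⟨b'⟩⟩ := DerivedCategory.exists_iso_Q_obj_of_isGE L n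
  let b : DRing.toD L₀ ≅ L := b'.symm
  obtain ⟨aY, bY, Y, hv, hinj, ⟨c⟩⟩ := hM
  have hYinj : Y.IsKInjective := InjAmp.isKInjective_of_amp (fun i hi => hv i (Or.inl hi)) hinj
  have hP : P.IsKProjective := DBasic.isKProjective_of_projective P y hb
    (fun i => by have := (hf i).2; infer_instance)
  obtain ⟨D⟩ := nonempty_dualBases (P := P) (fun i => ⟨(hf i).1, by have := (hf i).2; infer_instance⟩)
  have hη : IsIso (etaHom P L₀ Y) := isIso_of_bijective _ fun k =>
    bijective_etaHom' D k (Finset.Icc (n - (bY - k)) y) fun p hp r => by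
      rw [Finset.mem_Icc] at hp
      by_cases h1 : y < p
      · have := ModuleCat.subsingleton_of_isZero (hb p h1)
        exact Or.inl fun x => Subsingleton.elim _ _
      · by_cases h2 : p + r < n
        · have := ModuleCat.subsingleton_of_isZero
            ((CochainComplex.isStrictlyGE_iff L₀ n).1 hL₀ (p + r) h2)
          exact Or.inr (Or.inl fun x => Subsingleton.elim _ _)
        · have := ModuleCat.subsingleton_of_isZero (hv (r + k) (Or.inr (by omega)))
          exact Or.inr (Or.inr fun x => Subsingleton.elim _ _)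
  have hθ := isIso_theta_inj L₀ Y
  have hθP := isIso_theta P L₀
  have hθ' := isIso_theta_inj (DRing.homCx P L₀) Y
  have he := isIso_ε (DRing.homCx L₀ Y) P (Or.inr (isKFlat_kproj P))
  have h0 : IsIso (DTen.evalHom (DerivedCategory.Q.obj P) (DerivedCategory.Q.obj L₀)
      (DerivedCategory.Q.obj Y)) := by
    have hr : IsIso (LT (theta L₀ Y) (𝟙 (DerivedCategory.Q.obj P)) ≫
        DTen.evalHom (DerivedCategory.Q.obj P) (DerivedCategory.Q.obj L₀) (DerivedCategory.Q.obj Y) ≫
          DTen.RHomMap (theta P L₀) (DerivedCategory.Q.obj Y)) := by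
      rw [evalHom_comp]
      exact IsIso.comp_isIso' he (IsIso.comp_isIso' (Functor.map_isIso _ _) hθ')
    have := isIso_LT (theta L₀ Y) (𝟙 (DerivedCategory.Q.obj P)) hθ inferInstance
    have h2 : IsIso (DTen.evalHom (DerivedCategory.Q.obj P) (DerivedCategory.Q.obj L₀) (DerivedCategory.Q.obj Y) ≫
        DTen.RHomMap (theta P L₀) (DerivedCategory.Q.obj Y)) :=
      IsIso.of_isIso_comp_left (LT (theta L₀ Y) (𝟙 (DerivedCategory.Q.obj P))) _
    have := isIso_RHomMap (theta P L₀) hθP (DerivedCategory.Q.obj Y)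
    exact IsIso.of_isIso_comp_right _ (DTen.RHomMap (theta P L₀) (DerivedCategory.Q.obj Y))
  have hn := evalHom_natural a.hom b.inv c.hom
  have i1 : IsIso (LT (DTen.RHomMap b.inv (DerivedCategory.Q.obj Y) ≫ (DTen.RHomR A L).map c.hom) a.hom) :=
    isIso_LT _ _ (IsIso.comp_isIso' (isIso_RHomMap b.inv inferInstance _) (Functor.map_isIso _ _)) inferInstance
  have i2 : IsIso (DTen.RHomMap a.hom L ≫ (DTen.RHomR A (DRing.toD P)).map b.inv) :=
    IsIso.comp_isIso' (isIso_RHomMap a.hom inferInstance _) (Functor.map_isIso _ _)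
  have : IsIso (LT (DTen.RHomMap b.inv (DerivedCategory.Q.obj Y) ≫ (DTen.RHomR A L).map c.hom) a.hom ≫
      DTen.evalHom K L M) := by
    rw [hn]
    exact IsIso.comp_isIso' h0 (IsIso.comp_isIso' (isIso_RHomMap _ i2 _) (Functor.map_isIso _ _))
  exact IsIso.of_isIso_comp_left (LT (DTen.RHomMap b.inv (DerivedCategory.Q.obj Y) ≫
    (DTen.RHomR A L).map c.hom) a.hom) _

end Groth.Agent.DTenLib
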