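import Groth.Agent.DTenLib.El
import Groth.Agent.DRing.KProj
import Groth.Agent.DRing.Homology

/-!
# The tensor-hom adjunction for cochain complexes of modules
-/

universe u
open CategoryTheory CategoryTheory.Limits MonoidalCategory TensorProduct
open CochainComplex CochainComplex.HomComplex

namespace Groth.Agent.DTenLib

open Groth.Agent.DRing

variable {A : Type u} [CommRing A] {P P' Y Y' Z Z' : DRing.Cx A}

/-- The components of an element of the Hom complex. -/
noncomputable def cv {n : ℤ} (z : (DRing.homCx P Y).X n) (p q : ℤ) (h : p + n = q) : P.X p ⟶ Y.X q :=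
  Cochain.v (show Cochain P Y n from z) p q h

lemma cv_ext {n : ℤ} {z z' : (DRing.homCx P Y).X n} (h : ∀ p q hpq, cv z p q hpq = cv z' p q hpq) :
    z = z' :=
  Cochain.ext (show Cochain P Y n from z) z' h

lemma cv_add {n : ℤ} (z z' : (DRing.homCx P Y).X n) (p q : ℤ) (h : p + n = q) :
    cv (z + z') p q h = cv z p q h + cv z' p q h := rfl

lemma cv_smul {n : ℤ} (a : A) (z : (DRing.homCx P Y).X n) (p q : ℤ) (h : p + n = q) :
    cv (a • z) p q h = a • cv z p q h := rfl

lemma cv_d {n m : ℤ} (hn : n + 1 = m) (z : (DRing.homCx P Y).X n) (p q : ℤ) (h : p + m = q)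
    (q₁ q₂ : ℤ) (h₁ : q₁ = q - 1) (h₂ : p + 1 = q₂) :
    cv (((DRing.homCx P Y).d n m).hom z) p q h = cv z p q₁ (by omega) ≫ Y.d q₁ q +
      m.negOnePow • P.d p q₂ ≫ cv z q₂ q (by omega) :=
  δ_v n m hn (show Cochain P Y n from z) p q h q₁ q₂ h₁ h₂

/-- Evaluation on a summand. -/
noncomputable def evLin (P Y : DRing.Cx A) (n p m : ℤ) (h : n + p = m) :
    (DRing.homCx P Y).X n →ₗ[A] P.X p →ₗ[A] Y.X m where
  toFun z := (cv z p m (by omega)).hom
  map_add' z z' := by rw [cv_add]; rfl
  map_smul' a z := by rw [cv_smul]; rfl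

/-- Evaluation in degree `m`. -/
noncomputable def evX (P Y : DRing.Cx A) (m : ℤ) : (DRing.homCx P Y ⊗ P).X m ⟶ Y.X m :=
  HomologicalComplex.mapBifunctorDesc fun n p h => ModuleCat.ofHom (TensorProduct.lift (evLin P Y n p m h))

lemma evX_tm {n p m : ℤ} (h : n + p = m) (z : (DRing.homCx P Y).X n) (x : P.X p) :
    (evX P Y m).hom (tm _ _ h z x) = (cv z p m (by omega)).hom x := by
  change (Tensor.ιT _ _ n p m h ≫ evX P Y m).hom (z ⊗ₜ[A] x) = _
  erw [evX, HomologicalComplex.ι_mapBifunctorDesc]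
  rfl

/-- Evaluation `Hom•(P, Y) ⊗ P ⟶ Y`. -/
noncomputable def ev (P Y : DRing.Cx A) : DRing.homCx P Y ⊗ P ⟶ Y where
  f := evX P Y
  comm' m m' (hm : m + 1 = m') := hom_ext_tm fun n p h z x => by
    change (Y.d m m').hom ((evX P Y m).hom (tm _ _ h z x)) =
      (evX P Y m').hom (((DRing.homCx P Y ⊗ P).d m m').hom (tm _ _ h z x))
    rw [d_tm h hm, map_add, Units.smul_def, map_zsmul, evX_tm, evX_tm, evX_tm,
      cv_d rfl z p m' (by omega) m (p + 1) (by omega) rfl]
    simp only [ModuleCat.hom_add, ModuleCat.hom_comp, LinearMap.add_apply, LinearMap.comp_apply,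
      Units.smul_def, ModuleCat.hom_zsmul, LinearMap.smul_apply]
    rw [Int.negOnePow_succ, Units.val_neg, neg_smul]
    abel

lemma ev_tm {n p m : ℤ} (h : n + p = m) (z : (DRing.homCx P Y).X n) (x : P.X p) :
    ((ev P Y).f m).hom (tm _ _ h z x) = (cv z p m (by omega)).hom x :=
  evX_tm h z x

/-- Currying in degree `n`. -/
noncomputable def curryLin (h : Z ⊗ P ⟶ Y) (n : ℤ) : Z.X n →ₗ[A] (DRing.homCx P Y).X n where
  toFun z := show Cochain P Y n from Cochain.mk fun p q hpq => ModuleCat.ofHom
    { toFun := fun x => (h.f q).hom (tm Z P (show n + p = q by omega) z x)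
      map_add' := fun x x' => by rw [tm_add_right, map_add]
      map_smul' := fun a x => by rw [tm_smul_right, map_smul]; rfl }
  map_add' z z' := cv_ext fun p q hpq => ModuleCat.hom_ext (LinearMap.ext fun x => by
    change (h.f q).hom (tm Z P (show n + p = q by omega) (z + z') x) = _
    rw [tm_add_left, map_add]; rfl)
  map_smul' a z := cv_ext fun p q hpq => ModuleCat.hom_ext (LinearMap.ext fun x => by
    change (h.f q).hom (tm Z P (show n + p = q by omega) (a • z) x) = _
    rw [tm_smul_left, map_smul]; rfl)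

lemma cv_curryLin (h : Z ⊗ P ⟶ Y) (n : ℤ) (z : Z.X n) (p q : ℤ) (hpq : p + n = q) (x : P.X p) :
    (cv (curryLin h n z) p q hpq).hom x = (h.f q).hom (tm Z P (show n + p = q by omega) z x) := rfl

/-- Currying. -/
noncomputable def curry (h : Z ⊗ P ⟶ Y) : Z ⟶ DRing.homCx P Y where
  f n := ModuleCat.ofHom (curryLin h n)
  comm' n n' (hn : n + 1 = n') := by
    refine ModuleCat.hom_ext (LinearMap.ext fun z => cv_ext fun p q hpq =>
      ModuleCat.hom_ext (LinearMap.ext fun x => ?_))
    change (cv (((DRing.homCx P Y).d n n').hom (curryLin h n z)) p q hpq).hom x =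
      (cv (curryLin h n' ((Z.d n n').hom z)) p q hpq).hom x
    subst hn
    rw [cv_d rfl _ p q hpq (q - 1) (p + 1) rfl rfl, cv_curryLin]
    simp only [ModuleCat.hom_add, ModuleCat.hom_comp, LinearMap.add_apply, LinearMap.comp_apply,
      Units.smul_def, ModuleCat.hom_zsmul, LinearMap.smul_apply, cv_curryLin]
    rw [← LinearMap.comp_apply, ← ModuleCat.hom_comp, h.comm, ModuleCat.hom_comp,
      LinearMap.comp_apply, d_tm _ (show q - 1 + 1 = q by omega), map_add, Units.smul_def, map_zsmul,
      Int.negOnePow_succ, Units.val_neg, neg_smul]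
    abel

/-- Uncurrying. -/
noncomputable def uncurry (g : Z ⟶ DRing.homCx P Y) : Z ⊗ P ⟶ Y := g ▷ P ≫ ev P Y

lemma uncurry_tm (g : Z ⟶ DRing.homCx P Y) {n p m : ℤ} (h : n + p = m) (z : Z.X n) (x : P.X p) :
    ((uncurry g).f m).hom (tm Z P h z x) = (cv ((g.f n).hom z) p m (by omega)).hom x := by
  change ((ev P Y).f m).hom (((g ▷ P).f m).hom (tm Z P h z x)) = _
  rw [whiskerRight_tm, ev_tm]

/-- The tensor-hom bijection. -/
noncomputable def homEquivCx (Z P Y : DRing.Cx A) : (Z ⊗ P ⟶ Y) ≃ (Z ⟶ DRing.homCx P Y) where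
  toFun := curry
  invFun := uncurry
  left_inv h := HomologicalComplex.hom_ext _ _ fun m => hom_ext_tm fun n p hnp z x => by
    rw [uncurry_tm]; rfl
  right_inv g := HomologicalComplex.hom_ext _ _ fun n => ModuleCat.hom_ext (LinearMap.ext fun z =>
    cv_ext fun p q hpq => ModuleCat.hom_ext (LinearMap.ext fun x => uncurry_tm g (by omega) z x))

lemma curry_uncurry (g : Z ⟶ DRing.homCx P Y) : curry (uncurry g) = g :=
  (homEquivCx Z P Y).apply_symm_apply g

lemma uncurry_curry (h : Z ⊗ P ⟶ Y) : uncurry (curry h) = h :=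
  (homEquivCx Z P Y).symm_apply_apply h

/-- A null homotopy of `h` gives one of `curry h`. -/
noncomputable def curryHomotopyZero {h : Z ⊗ P ⟶ Y} (s : Homotopy h 0) : Homotopy (curry h) 0 :=
  let k : ∀ i j, (ComplexShape.up ℤ).Rel j i → (Z.X i ⟶ (DRing.homCx P Y).X j) := fun i j (hij : j + 1 = i) =>
    ModuleCat.ofHom
    { toFun := fun z => show Cochain P Y j from Cochain.mk fun p q hpq => ModuleCat.ofHom
        { toFun := fun x => (s.hom (i + p) q).hom (tm Z P rfl z x)
          map_add' := fun x x' => by rw [tm_add_right, map_add]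
          map_smul' := fun a x => by rw [tm_smul_right, map_smul]; rfl }
      map_add' := fun z z' => cv_ext fun p q hpq => ModuleCat.hom_ext (LinearMap.ext fun x => by
        change (s.hom (i + p) q).hom (tm Z P rfl (z + z') x) = _
        rw [tm_add_left, map_add]; rfl)
      map_smul' := fun a z => cv_ext fun p q hpq => ModuleCat.hom_ext (LinearMap.ext fun x => by
        change (s.hom (i + p) q).hom (tm Z P rfl (a • z) x) = _
        rw [tm_smul_left, map_smul]; rfl) }
  (Homotopy.ofEq (HomologicalComplex.hom_ext _ _ fun n => by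
    rw [Homotopy.nullHomotopicMap'_f (k₀ := n + 1) (k₂ := n - 1)
      (show n - 1 + 1 = n by omega) (show n + 1 = n + 1 from rfl) k]
    refine ModuleCat.hom_ext (LinearMap.ext fun z => cv_ext fun p q hpq =>
      ModuleCat.hom_ext (LinearMap.ext fun x => ?_))
    change (h.f q).hom (tm Z P (show n + p = q by omega) z x) =
      ((cv ((k (n + 1) n rfl).hom ((Z.d n (n + 1)).hom z)) p q hpq) +
        cv (((DRing.homCx P Y).d (n - 1) n).hom ((k n (n - 1) (show n - 1 + 1 = n by omega)).hom z)) p q hpq).hom x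
    rw [cv_d (by omega) _ p q hpq (q - 1) (p + 1) rfl rfl]
    simp only [ModuleCat.hom_add, ModuleCat.hom_comp, LinearMap.add_apply, LinearMap.comp_apply,
      Units.smul_def, ModuleCat.hom_zsmul, LinearMap.smul_apply]
    have hc := s.comm q
    rw [dNext_eq _ (show (ComplexShape.up ℤ).Rel q (q + 1) from rfl),
      prevD_eq _ (show (ComplexShape.up ℤ).Rel (q - 1) q from (by simp))] at hc
    rw [hc, HomologicalComplex.zero_f, add_zero]
    simp only [ModuleCat.hom_add, ModuleCat.hom_comp, LinearMap.add_apply, LinearMap.comp_apply]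
    rw [d_tm _ (show q + 1 = q + 1 from rfl), map_add, Units.smul_def, map_zsmul]
    change _ = (s.hom (n + 1 + p) q).hom (tm Z P rfl ((Z.d n (n + 1)).hom z) x) +
      ((Y.d (q - 1) q).hom ((s.hom (n + p) (q - 1)).hom (tm Z P rfl z x)) +
        (n.negOnePow : ℤ) • (s.hom (n + (p + 1)) q).hom (tm Z P rfl z ((P.d p (p + 1)).hom x)))
    obtain rfl : q = n + p := by omega
    have hgen : ∀ (m m' : ℤ) (e : m = m') (a b : ℤ) (h1 : a + b = m) (h2 : a + b = m') u v,
        (s.hom m (n + p)).hom (tm Z P h1 u v) = (s.hom m' (n + p)).hom (tm Z P h2 u v) := by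
      rintro m m' rfl a b h1 h2 u v; rfl
    rw [hgen _ (n + 1 + p) (by omega) (n + 1) p (by omega) rfl,
      hgen _ (n + (p + 1)) (by omega) n (p + 1) (by omega) rfl]
    abel)).trans (Homotopy.nullHomotopy' k)

/-- Homotopic maps have homotopic adjuncts. -/
noncomputable def curryHomotopy {h h' : Z ⊗ P ⟶ Y} (s : Homotopy h h') : Homotopy (curry h) (curry h') :=
  Homotopy.equivSubZero.symm ((Homotopy.ofEq (by
    refine HomologicalComplex.hom_ext _ _ fun n => ModuleCat.hom_ext (LinearMap.ext fun z =>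
      cv_ext fun p q hpq => ModuleCat.hom_ext (LinearMap.ext fun x => ?_))
    rfl)).trans (curryHomotopyZero (Homotopy.equivSubZero s)))

/-- `Hom•(P, M)` is acyclic for `P` K-projective and `M` acyclic. -/
lemma acyclic_homCx [P.IsKProjective] (hY : Y.Acyclic) : (DRing.homCx P Y).Acyclic := fun n => by
  rw [HomologicalComplex.exactAt_iff' _ (n - 1) n (n + 1) (by simp) (by simp),
    ShortComplex.moduleCat_exact_iff]
  intro z hz
  obtain ⟨w, hw⟩ := KProj.exists_δ_eq hY (n - 1) n (by omega) (show Cochain P Y n from z) hz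
  exact ⟨w, hw⟩

lemma isKProjective_tensor [Z.IsKProjective] [P.IsKProjective] :
    CochainComplex.IsKProjective (Z ⊗ P : DRing.Cx A) where
  nonempty_homotopy_zero {M} f hM := by
    obtain ⟨s⟩ := IsKProjective.nonempty_homotopy_zero (curry f) (acyclic_homCx (P := P) hM)
    have h0 : P ◁ (0 : Z ⟶ DRing.homCx P M) = 0 := HomologicalComplex.hom_ext _ _ fun m =>
      hom_ext_tm fun p q h x y => by
        rw [whiskerLeft_tm, HomologicalComplex.zero_f, HomologicalComplex.zero_f, ModuleCat.hom_zero,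
          LinearMap.zero_apply, tm_zero_right]
        rfl
    refine ⟨(Homotopy.ofEq ?_).trans
      (((((Tensor.whiskerLeftHomotopy P s).trans (Homotopy.ofEq h0)).compLeft (Tensor.braid Z P).hom).compRight
        ((Tensor.braid _ P).inv ≫ ev P M)).trans (Homotopy.ofEq (by rw [comp_zero, zero_comp])))⟩
    rw [← Category.assoc, Category.assoc (Tensor.braid Z P).hom, ← Tensor.whiskerRight_eq]
    exact (uncurry_curry f).symm

/-- Precomposition. -/
noncomputable def pre (g : P' ⟶ P) (Y : DRing.Cx A) : DRing.homCx P Y ⟶ DRing.homCx P' Y where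
  f n := ModuleCat.ofHom
    { toFun := fun z => show Cochain P' Y n from
        (Cochain.ofHom g).comp (show Cochain P Y n from z) (zero_add n)
      map_add' := fun z z' => cv_ext fun p q hpq => by
        change ((Cochain.ofHom g).comp _ (zero_add n)).v p q hpq = _
        rw [Cochain.zero_cochain_comp_v]
        simp [cv, Cochain.zero_cochain_comp_v]
      map_smul' := fun a z => cv_ext fun p q hpq => by
        change ((Cochain.ofHom g).comp _ (zero_add n)).v p q hpq = _
        rw [Cochain.zero_cochain_comp_v]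
        simp [cv, Cochain.zero_cochain_comp_v] }
  comm' i j _ := by
    refine ModuleCat.hom_ext (LinearMap.ext fun z => ?_)
    exact δ_ofHom_comp g (show Cochain P Y i from z) j

lemma cv_pre (g : P' ⟶ P) {n : ℤ} (z : (DRing.homCx P Y).X n) (p q : ℤ) (h : p + n = q) :
    cv (((pre g Y).f n).hom z) p q h = g.f p ≫ cv z p q h := by
  change ((Cochain.ofHom g).comp _ (zero_add n)).v p q h = _
  rw [Cochain.zero_cochain_comp_v, Cochain.ofHom_v]; rfl

lemma cv_post (f : Y ⟶ Y') {n : ℤ} (z : (DRing.homCx P Y).X n) (p q : ℤ) (h : p + n = q) :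
    cv (((DRing.homCxMap P f).f n).hom z) p q h = cv z p q h ≫ f.f q := by
  change (Cochain.comp _ (Cochain.ofHom f) (add_zero n)).v p q h = _
  rw [Cochain.comp_zero_cochain_v, Cochain.ofHom_v]; rfl

lemma pre_ev (g : P' ⟶ P) : pre g Y ▷ P' ≫ ev P' Y = DRing.homCx P Y ◁ g ≫ ev P Y :=
  HomologicalComplex.hom_ext _ _ fun m => hom_ext_tm fun n p h z x => by
    simp only [HomologicalComplex.comp_f, ModuleCat.hom_comp, LinearMap.comp_apply]
    rw [whiskerRight_tm, whiskerLeft_tm, ev_tm, ev_tm, cv_pre]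
    rfl

lemma post_ev (f : Y ⟶ Y') : DRing.homCxMap P f ▷ P ≫ ev P Y' = ev P Y ≫ f :=
  HomologicalComplex.hom_ext _ _ fun m => hom_ext_tm fun n p h z x => by
    simp only [HomologicalComplex.comp_f, ModuleCat.hom_comp, LinearMap.comp_apply]
    rw [whiskerRight_tm, ev_tm, ev_tm, cv_post]
    rfl

end Groth.Agent.DTenLib
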