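import Groth.Agent.DTenLib.Base
import Groth.Agent.KFlat.BaseChange
import Groth.Prelude.Def_DTen6

/-!
# The two legs of the iterated change of rings
-/

universe u
open CategoryTheory CategoryTheory.Limits MonoidalCategory
attribute [local instance] HasDerivedCategory.standard

namespace Groth.Agent.DTenLib

open Groth.Agent.DRing

variable {A B C : Type u} [CommRing A] [CommRing B] [CommRing C] (φ : A →+* B) (ψ : B →+* C)

lemma isKFlat_mixT {K : DRing.Cx A} {N : DRing.Cx B} (hK : DRing.IsKFlat A K) (hN : DRing.IsKFlat B N) :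
    DRing.IsKFlat B ((DTen.mixT φ).obj (K, N)) :=
  isKFlat_tensor (Groth.Agent.KFlat.BaseChange.isKFlat_extCx φ hK) hN

theorem isIso_εMix [DTen.HasLTenMix φ] (K : DRing.Cx A) (N : DRing.Cx B) (hK : DRing.IsKFlat A K) :
    IsIso ((DTen.εMix φ).app (K, N)) := by
  obtain ⟨P, π, hP, hπ⟩ := exists_kproj_res K
  obtain ⟨P', π', hP', hπ'⟩ := exists_kproj_res N
  have hs : IsIso ((DTen.QMix A B).map (Prod.mkHom π π')) := by
    rw [isIso_prod_iff]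
    exact ⟨inferInstanceAs (IsIso (DerivedCategory.Q.map π)),
      inferInstanceAs (IsIso (DerivedCategory.Q.map π'))⟩
  refine ((hasEnoughMix φ).isIso_app_iff (W := DTen.qisMix A B) (DTen.LTenMix φ) (DTen.εMix φ)
    (Prod.mkHom π π') (isGoodMix φ P P')).2 ?_
  change IsIso (DerivedCategory.Q.map ((DTen.extCx φ).map π ▷ P' ≫ (DTen.extCx φ).obj K ◁ π'))
  have h0 : QuasiIso ((DTen.extCx φ).map π) :=
    SingleTensor.quasiIso_extendScalars φ π (isKFlat_kproj P) hK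
  have h1 : QuasiIso ((DTen.extCx φ).map π ▷ P') := KFlat.quasiIso_whiskerRight (isKFlat_kproj P') _
  have h2 : QuasiIso ((DTen.extCx φ).obj K ◁ π') :=
    KFlat.quasiIso_whiskerLeft (Groth.Agent.KFlat.BaseChange.isKFlat_extCx φ hK) π'
  infer_instance

lemma isGoodMix₃ (P : DRing.Cx A) (N : DRing.Cx B) (M : DRing.Cx C) [P.IsKProjective] [N.IsKProjective]
    [M.IsKProjective] : LeftDerived.IsGood (DTen.QMix₃ A B C) (DTen.mix₃ φ ψ) (P, (N, M)) where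
  fac Y χ := by
    obtain ⟨f, hf⟩ := DBasic.exists_Q_map_eq χ.1
    obtain ⟨g, hg⟩ := DBasic.exists_Q_map_eq χ.2.1
    obtain ⟨k, hk⟩ := DBasic.exists_Q_map_eq χ.2.2
    exact ⟨Prod.mkHom f (Prod.mkHom g k), Prod.ext hf (Prod.ext hg hk)⟩
  eq Y g g' h := by
    obtain ⟨e₁⟩ := (DBasic.Q_map_eq_iff g.1 g'.1).1 (congrArg (·.1) h)
    obtain ⟨e₂⟩ := (DBasic.Q_map_eq_iff g.2.1 g'.2.1).1 (congrArg (·.2.1) h)
    obtain ⟨e₃⟩ := (DBasic.Q_map_eq_iff g.2.2 g'.2.2).1 (congrArg (·.2.2) h)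
    let e₁' := (ModuleCat.extendScalars.{u, u, u} φ).mapHomotopy e₁
    let inner (a : (DTen.extCx φ).obj P ⟶ (DTen.extCx φ).obj Y.1) (b : N ⟶ Y.2.1) :=
      a ▷ N ≫ (DTen.extCx φ).obj Y.1 ◁ b
    have hr : ∀ {D : Type u} [CommRing D] (E : DRing.Cx D) {U V : DRing.Cx D} {a b : U ⟶ V}
        (e : Homotopy a b), Nonempty (Homotopy (a ▷ E) (b ▷ E)) := fun E _ _ _ _ e =>
      ⟨(Homotopy.ofEq (Tensor.whiskerRight_eq _ E)).trans
        ((((Tensor.whiskerLeftHomotopy E e).compRight _).compLeft _).trans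
          (Homotopy.ofEq (Tensor.whiskerRight_eq _ E).symm))⟩
    obtain ⟨r₁⟩ := hr N e₁'
    have ei : Homotopy (inner ((DTen.extCx φ).map g.1) g.2.1) (inner ((DTen.extCx φ).map g'.1) g'.2.1) :=
      Homotopy.comp r₁ (Tensor.whiskerLeftHomotopy _ e₂)
    change DerivedCategory.Q.map ((DTen.extCx ψ).map (inner ((DTen.extCx φ).map g.1) g.2.1) ▷ M ≫
        (DTen.extCx ψ).obj ((DTen.mixT φ).obj (Y.1, Y.2.1)) ◁ g.2.2) =
      DerivedCategory.Q.map ((DTen.extCx ψ).map (inner ((DTen.extCx φ).map g'.1) g'.2.1) ▷ M ≫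
        (DTen.extCx ψ).obj ((DTen.mixT φ).obj (Y.1, Y.2.1)) ◁ g'.2.2)
    rw [Functor.map_comp DerivedCategory.Q, Functor.map_comp DerivedCategory.Q,
      LTensor.Q_map_whiskerRight_eq M ((ModuleCat.extendScalars.{u, u, u} ψ).mapHomotopy ei),
      Q_map_whiskerLeft_eq _ e₃]

lemma hasEnoughMix₃ : LeftDerived.HasEnough (DTen.QMix₃ A B C) (DTen.mix₃ φ ψ) := by
  rintro ⟨K, L, M⟩
  obtain ⟨P, π, hP, hπ⟩ := exists_kproj_res K
  obtain ⟨P', π', hP', hπ'⟩ := exists_kproj_res L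
  obtain ⟨P'', π'', hP'', hπ''⟩ := exists_kproj_res M
  refine ⟨(P, (P', P'')), Prod.mkHom π (Prod.mkHom π' π''), isGoodMix₃ φ ψ P P' P'', ?_⟩
  rw [isIso_prod_iff]
  refine ⟨inferInstanceAs (IsIso (DerivedCategory.Q.map π)), ?_⟩
  change IsIso ((DTen.QMix B C).map (Prod.mkHom π' π''))
  rw [isIso_prod_iff]
  exact ⟨inferInstanceAs (IsIso (DerivedCategory.Q.map π')),
    inferInstanceAs (IsIso (DerivedCategory.Q.map π''))⟩

theorem isIso_legs [DTen.HasLTenMix φ] [DTen.HasLTenMix ψ] [DTen.HasLTenMix (ψ.comp φ)]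
    [DTen.HasLTenMix₃ φ ψ] (E : Dual.D A) (F : Dual.D B) (G : Dual.D C) :
    IsIso ((DTen.leg₃L φ ψ).app (E, (F, G))) ∧ IsIso ((DTen.leg₃R φ ψ).app (E, (F, G))) := by
  obtain ⟨P, hP, -, ⟨e⟩⟩ := DBasic.exists_kproj_iso E
  obtain ⟨N, hN, -, ⟨e'⟩⟩ := DBasic.exists_kproj_iso F
  obtain ⟨M, hM, -, ⟨e''⟩⟩ := DBasic.exists_kproj_iso G
  let ee : ((E, (F, G)) : Dual.D A × (Dual.D B × Dual.D C)) ≅ (DTen.QMix₃ A B C).obj (P, (N, M)) :=
    Iso.prod e.symm (Iso.prod e'.symm e''.symm)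
  have h3 : IsIso ((DTen.εMix₃ φ ψ).app (P, (N, M))) :=
    (hasEnoughMix₃ φ ψ).isIso_app (W := DTen.qisMix₃ A B C) (DTen.LTenMix₃ φ ψ) (DTen.εMix₃ φ ψ)
      (isGoodMix₃ φ ψ P N M)
  have hl : IsIso ((DTen.β₃L φ ψ).app (P, (N, M))) := by
    have h1 := isIso_εMix φ P N (isKFlat_kproj P)
    have h2 := isIso_εMix ψ ((DTen.mixT φ).obj (P, N)) M (isKFlat_mixT φ (isKFlat_kproj P) (isKFlat_kproj N))
    dsimp [DTen.β₃L]
    have h5 : IsIso (Prod.mkHom ((DTen.εMix φ).app (P, N)) (𝟙 (DerivedCategory.Q.obj M))) := by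
      rw [isIso_prod_iff]; exact ⟨h1, inferInstanceAs (IsIso (𝟙 _))⟩
    exact IsIso.comp_isIso' (@Functor.map_isIso _ _ _ _ _ _ _ _ h5) h2
  have hr : IsIso ((DTen.β₃R φ ψ).app (P, (N, M))) := by
    have h1 := isIso_εMix ψ N M (isKFlat_kproj N)
    have h2 := isIso_εMix (ψ.comp φ) P ((DTen.mixT ψ).obj (N, M)) (isKFlat_kproj P)
    dsimp [DTen.β₃R]
    have h5 : IsIso (Prod.mkHom (𝟙 (DerivedCategory.Q.obj P)) ((DTen.εMix ψ).app (N, M))) := by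
      rw [isIso_prod_iff]; exact ⟨inferInstanceAs (IsIso (𝟙 _)), h1⟩
    exact IsIso.comp_isIso' (@Functor.map_isIso _ _ _ _ _ _ _ _ h5) (IsIso.comp_isIso' h2 (Functor.map_isIso _ _))
  rw [← DTen.leg₃L_fac] at hl
  rw [← DTen.leg₃R_fac] at hr
  exact ⟨isIso_app_of_iso _ ee (@IsIso.of_isIso_comp_right _ _ _ _ _ _ ((DTen.εMix₃ φ ψ).app (P, (N, M))) h3 hl),
    isIso_app_of_iso _ ee (@IsIso.of_isIso_comp_right _ _ _ _ _ _ ((DTen.εMix₃ φ ψ).app (P, (N, M))) h3 hr)⟩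

end Groth.Agent.DTenLib
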