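import Groth.Agent.DTenLib.Comp
import Groth.Agent.DTenLib.Hom
import Groth.Prelude.Def_DTen3

/-!
# `RHom` computed by Hom complexes out of K-projective complexes
-/

universe u
open CategoryTheory CategoryTheory.Limits MonoidalCategory
attribute [local instance] HasDerivedCategory.standard

namespace Groth.Agent.DTenLib

open Groth.Agent.DRing

variable {A : Type u} [CommRing A] [DTen.HasLTen A]

lemma ε_natural {K K' L L' : DRing.Cx A} (f : K ⟶ K') (g : L ⟶ L') :
    (DTen.LTen₂ A).map (Prod.mkHom (DerivedCategory.Q.map f) (DerivedCategory.Q.map g)) ≫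
      (DTen.ε A).app (K', L') = (DTen.ε A).app (K, L) ≫ DerivedCategory.Q.map (f ▷ L ≫ K' ◁ g) :=
  (DTen.ε A).naturality (Prod.mkHom f g : (K, L) ⟶ (K', L'))

lemma ε_natural_left {K K' : DRing.Cx A} (f : K ⟶ K') (L : DRing.Cx A) :
    (DTen.LTen₂ A).map (Prod.mkHom (DerivedCategory.Q.map f) (𝟙 (DerivedCategory.Q.obj L))) ≫
      (DTen.ε A).app (K', L) = (DTen.ε A).app (K, L) ≫ DerivedCategory.Q.map (f ▷ L) := by
  have h := ε_natural f (𝟙 L)
  rw [CategoryTheory.Functor.map_id, MonoidalCategory.whiskerLeft_id, Category.comp_id] at h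
  exact h

lemma ε_natural_right (K : DRing.Cx A) {L L' : DRing.Cx A} (g : L ⟶ L') :
    (DTen.LTen₂ A).map (Prod.mkHom (𝟙 (DerivedCategory.Q.obj K)) (DerivedCategory.Q.map g)) ≫
      (DTen.ε A).app (K, L') = (DTen.ε A).app (K, L) ≫ DerivedCategory.Q.map (K ◁ g) := by
  have h := ε_natural (𝟙 K) g
  rw [CategoryTheory.Functor.map_id, MonoidalCategory.id_whiskerRight] at h
  erw [Category.id_comp] at h
  exact h

lemma LTen_exchange {X X' L L' : Dual.D A} (a : X ⟶ X') (b : L ⟶ L') :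
    (DTen.LTen₂ A).map (Prod.mkHom a (𝟙 L)) ≫ (DTen.LTen₂ A).map (Prod.mkHom (𝟙 X') b) =
      (DTen.LTen₂ A).map (Prod.mkHom (𝟙 X) b) ≫ (DTen.LTen₂ A).map (Prod.mkHom a (𝟙 L')) := by
  rw [← Functor.map_comp, ← Functor.map_comp]
  congr 1
  exact Prod.ext ((Category.comp_id a).trans (Category.id_comp a).symm)
    ((Category.id_comp b).trans (Category.comp_id b).symm)

variable [DTen.HasRHom A]

/-- The comparison `Q Hom•(P, Y) ⟶ RHom(QP, QY)`. -/
noncomputable def theta (P Y : DRing.Cx A) :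
    DerivedCategory.Q.obj (DRing.homCx P Y) ⟶
      (DTen.RHomR A (DerivedCategory.Q.obj P)).obj (DerivedCategory.Q.obj Y) :=
  DTen.rhomHomEquiv _ _ _ ((DTen.ε A).app (DRing.homCx P Y, P) ≫ DerivedCategory.Q.map (ev P Y))

lemma theta_fac (P Y : DRing.Cx A) :
    (DTen.LTen₂ A).map (Prod.mkHom (theta P Y) (𝟙 (DerivedCategory.Q.obj P))) ≫
        DTen.ev (DerivedCategory.Q.obj P) (DerivedCategory.Q.obj Y) =
      (DTen.ε A).app (DRing.homCx P Y, P) ≫ DerivedCategory.Q.map (ev P Y) :=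
  ((DTen.rhomAdj A (DerivedCategory.Q.obj P)).homEquiv _ _).left_inv _

lemma symm_Q_map_theta {Z P Y : DRing.Cx A} (f : Z ⟶ DRing.homCx P Y) :
    (DTen.rhomHomEquiv _ _ _).symm (DerivedCategory.Q.map f ≫ theta P Y) =
      (DTen.ε A).app (Z, P) ≫ DerivedCategory.Q.map (uncurry f) := by
  rw [DTen.rhomHomEquiv, Adjunction.homEquiv_naturality_left_symm, theta]
  erw [Equiv.symm_apply_apply]
  rw [uncurry, Functor.map_comp, ← Category.assoc, ← Category.assoc]
  exact congrArg (· ≫ _) (ε_natural_left f P)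

theorem isIso_theta (P Y : DRing.Cx A) [P.IsKProjective] : IsIso (theta P Y) := by
  obtain ⟨Z, hZ, -, ⟨e⟩⟩ := DBasic.exists_kproj_iso
    ((DTen.RHomR A (DerivedCategory.Q.obj P)).obj (DerivedCategory.Q.obj Y))
  have hZP := isKProjective_tensor (Z := Z) (P := P)
  have := isIso_ε Z P (Or.inr (isKFlat_kproj P))
  obtain ⟨h, hh⟩ := DBasic.exists_Q_map_eq (P := (Z ⊗ P : DRing.Cx A)) (L := Y)
    (inv ((DTen.ε A).app (Z, P)) ≫ (DTen.rhomHomEquiv _ _ _).symm e.hom)
  have hf : DerivedCategory.Q.map (curry h) ≫ theta P Y = e.hom := by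
    apply (DTen.rhomHomEquiv _ _ _).symm.injective
    refine (symm_Q_map_theta (curry h)).trans ?_
    rw [uncurry_curry, hh, IsIso.hom_inv_id_assoc]
  refine ⟨e.inv ≫ DerivedCategory.Q.map (curry h), ?_, by rw [Category.assoc, hf, e.inv_hom_id]⟩
  obtain ⟨W, π, hW, hπ⟩ := exists_kproj_res (DRing.homCx P Y)
  have hWP := isKProjective_tensor (Z := W) (P := P)
  have := isIso_ε W P (Or.inr (isKFlat_kproj P))
  rw [← cancel_epi (DerivedCategory.Q.map π)]
  obtain ⟨g, hg⟩ := DBasic.exists_Q_map_eq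
    (DerivedCategory.Q.map π ≫ theta P Y ≫ e.inv ≫ DerivedCategory.Q.map (curry h))
  have h2 : DerivedCategory.Q.map g ≫ theta P Y = DerivedCategory.Q.map π ≫ theta P Y := by
    rw [hg]
    simp only [Category.assoc]
    erw [hf]
    rw [e.inv_hom_id, Category.comp_id]
  have h3 : DerivedCategory.Q.map (uncurry g) = DerivedCategory.Q.map (uncurry π) := by
    have h4 := congrArg (DTen.rhomHomEquiv _ _ _).symm h2
    rw [symm_Q_map_theta, symm_Q_map_theta] at h4
    exact (cancel_epi _).1 h4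
  obtain ⟨s⟩ := (DBasic.Q_map_eq_iff _ _).1 h3
  have h5 : Homotopy g π := (Homotopy.ofEq (curry_uncurry g).symm).trans
    ((curryHomotopy s).trans (Homotopy.ofEq (curry_uncurry π)))
  rw [← hg, (DBasic.Q_map_eq_iff g π).2 ⟨h5⟩]
  exact (Category.comp_id _).symm

lemma theta_pre {P P' : DRing.Cx A} (g : P' ⟶ P) (Y : DRing.Cx A) :
    DerivedCategory.Q.map (pre g Y) ≫ theta P' Y =
      theta P Y ≫ DTen.RHomMap (DerivedCategory.Q.map g) (DerivedCategory.Q.obj Y) := by
  apply (DTen.rhomHomEquiv _ _ _).symm.injective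
  refine (symm_Q_map_theta (pre g Y)).trans ?_
  rw [uncurry, pre_ev, DTen.rhomHomEquiv, Adjunction.homEquiv_counit, Functor.map_comp]
  symm
  rw [Functor.map_comp]
  refine (Category.assoc _ _ _).trans ?_
  refine (congrArg (_ ≫ ·) (DTen.RHom_map_ev (DerivedCategory.Q.map g) (DerivedCategory.Q.obj Y))).trans ?_
  refine (Category.assoc _ _ _).symm.trans ?_
  refine (congrArg (· ≫ _) (LTen_exchange (theta P Y) (DerivedCategory.Q.map g))).trans ?_
  refine (Category.assoc _ _ _).trans ?_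
  refine (congrArg (_ ≫ ·) (theta_fac P Y)).trans ?_
  refine (Category.assoc _ _ _).symm.trans ?_
  refine (congrArg (· ≫ _) (ε_natural_right (DRing.homCx P Y) g)).trans ?_
  exact Category.assoc _ _ _

lemma theta_post (P : DRing.Cx A) {Y Y' : DRing.Cx A} (f : Y ⟶ Y') :
    DerivedCategory.Q.map (DRing.homCxMap P f) ≫ theta P Y' =
      theta P Y ≫ (DTen.RHomR A (DerivedCategory.Q.obj P)).map (DerivedCategory.Q.map f) := by
  apply (DTen.rhomHomEquiv _ _ _).symm.injective
  refine (symm_Q_map_theta (DRing.homCxMap P f)).trans ?_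
  rw [uncurry, post_ev, DTen.rhomHomEquiv, Adjunction.homEquiv_naturality_right_symm, Functor.map_comp,
    theta]
  erw [Equiv.symm_apply_apply, Category.assoc]

end Groth.Agent.DTenLib
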